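import Groth.Agent.HomRep.HomScheme
import Groth.Agent.MTBridge.CentralFibres

/-!
# Representing schemes of homomorphisms and change of base
-/

set_option autoImplicit false
set_option backward.isDefEq.respectTransparency false

universe u

open CategoryTheory CategoryTheory.Limits AlgebraicGeometry MonoidalCategory CartesianMonoidalCategory MonObj

namespace Groth.Agent.HomRep

open Groth.Agent.MTBridge (toBC toBC_mul)

variable {S S' : Scheme.{u}} (j : S' ⟶ S)

/-- the projection formula -/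
noncomputable def projIso (G : Over S) (T : Over S') :
    (Over.map j).obj (Red.bc j G ⊗ T) ≅ G ⊗ (Over.map j).obj T :=
  Over.isoMk (pullbackLeftPullbackSndIso G.hom j T.hom) (by
    change (pullbackLeftPullbackSndIso G.hom j T.hom).hom ≫ pullback.fst G.hom (T.hom ≫ j) ≫ G.hom =
      (pullback.fst (pullback.snd G.hom j) T.hom ≫ pullback.snd G.hom j) ≫ j
    rw [pullbackLeftPullbackSndIso_hom_fst_assoc, pullback.condition, Category.assoc])

lemma map_lift_projIso {G : Over S} {T X : Over S'} (a : X ⟶ Red.bc j G) (t : X ⟶ T) :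
    (Over.map j).map (lift a t) ≫ (projIso j G T).hom =
      lift (((Over.mapPullbackAdj j).homEquiv X G).symm a) ((Over.map j).map t) := by
  apply CartesianMonoidalCategory.hom_ext
  · rw [Category.assoc, lift_fst]
    apply Over.OverMorphism.ext
    change (lift a t).left ≫ (pullbackLeftPullbackSndIso G.hom j T.hom).hom ≫
      pullback.fst G.hom (T.hom ≫ j) = (((Over.mapPullbackAdj j).homEquiv X G).symm a).left
    rw [pullbackLeftPullbackSndIso_hom_fst,
      show (((Over.mapPullbackAdj j).homEquiv X G).symm a).left = a.left ≫ pullback.fst G.hom j from by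
        rw [Adjunction.homEquiv_counit]; simp [Over.mapPullbackAdj]]
    rw [← Category.assoc]
    congr 1
    exact congrArg CommaMorphism.left (lift_fst a t)
  · rw [Category.assoc, lift_snd]
    apply Over.OverMorphism.ext
    change (lift a t).left ≫ (pullbackLeftPullbackSndIso G.hom j T.hom).hom ≫
      pullback.snd G.hom (T.hom ≫ j) = t.left
    rw [pullbackLeftPullbackSndIso_hom_snd]
    exact congrArg CommaMorphism.left (lift_snd a t)

/-- a family over `S` as a family over `S'` -/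
noncomputable def famBC {G H : Over S} {T : Over S'} (φ : G ⊗ (Over.map j).obj T ⟶ H) :
    Red.bc j G ⊗ T ⟶ Red.bc j H :=
  toBC j ((projIso j G T).hom ≫ φ)

lemma lift_famBC {G H : Over S} {T X : Over S'} (φ : G ⊗ (Over.map j).obj T ⟶ H) (a : X ⟶ Red.bc j G)
    (t : X ⟶ T) : lift a t ≫ famBC j φ =
      toBC j (lift (((Over.mapPullbackAdj j).homEquiv X G).symm a) ((Over.map j).map t) ≫ φ) := by
  rw [← map_lift_projIso, Category.assoc]
  exact ((Over.mapPullbackAdj j).homEquiv_naturality_left (lift a t) ((projIso j G T).hom ≫ φ)).symm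

lemma famBC_bijective (G H : Over S) (T : Over S') :
    Function.Bijective (famBC j : (G ⊗ (Over.map j).obj T ⟶ H) → _) :=
  (((Over.mapPullbackAdj j).homEquiv _ H).bijective.comp
    (((projIso j G T).homFromEquiv (Z := H)).symm.bijective) : _)

lemma famBC_whiskerLeft {G H : Over S} {T T' : Over S'} (v : T' ⟶ T)
    (φ : G ⊗ (Over.map j).obj T ⟶ H) :
    (Red.bc j G ◁ v) ≫ famBC j φ = famBC j ((G ◁ (Over.map j).map v) ≫ φ) := by
  refine Eq.trans ?_ (Category.id_comp _)
  rw [show 𝟙 (Red.bc j G ⊗ T') = lift (fst _ _) (snd _ _) from lift_fst_snd.symm,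
    lift_famBC, lift_whiskerLeft_assoc, ← Functor.map_comp, ← lift_famBC]
  congr 1

lemma isHomFamily_famBC {G H : Over S} [GrpObj G] [GrpObj H] {T : Over S'}
    (φ : G ⊗ (Over.map j).obj T ⟶ H) :
    AutFam.IsHomFamily (Red.bc j G) (Red.bc j H) (famBC j φ) ↔ AutFam.IsHomFamily G H φ := by
  have hmul : ∀ {X : Over S'} (a b : X ⟶ Red.bc j G),
      ((Over.mapPullbackAdj j).homEquiv X G).symm (a * b) =
        ((Over.mapPullbackAdj j).homEquiv X G).symm a * ((Over.mapPullbackAdj j).homEquiv X G).symm b := by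
    intro X a b
    rw [Equiv.symm_apply_eq]
    refine Eq.trans ?_ (toBC_mul j _ _).symm
    simp only [toBC, Equiv.apply_symm_apply]
  constructor
  · intro h X g₁ g₂ t
    let X' : Over S' := Over.mk (t.left ≫ T.hom)
    let i : (Over.map j).obj X' ⟶ X := Over.homMk (𝟙 X.left) (by
      change 𝟙 X.left ≫ X.hom = (t.left ≫ T.hom) ≫ j
      rw [Category.id_comp, Category.assoc]
      exact (Over.w t).symm)
    haveI : IsIso i := by
      haveI : IsIso ((Over.forget S).map i) := inferInstanceAs (IsIso (𝟙 X.left))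
      exact isIso_of_reflects_iso i (Over.forget S)
    let t' : X' ⟶ T := Over.homMk t.left rfl
    have ht : i ≫ t = (Over.map j).map t' := Over.OverMorphism.ext (Category.id_comp t.left)
    have := h X' (toBC j (i ≫ g₁)) (toBC j (i ≫ g₂)) t'
    rw [lift_famBC, lift_famBC, lift_famBC, hmul, ← toBC_mul] at this
    simp only [toBC, Equiv.symm_apply_apply, EmbeddingLike.apply_eq_iff_eq, ← ht] at this
    rw [← cancel_epi i]
    simpa only [comp_lift_assoc, MonObj.comp_mul] using this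
  · intro h X a b t
    rw [lift_famBC, lift_famBC, lift_famBC, hmul, h, toBC_mul]

/-- base change of a scheme of homomorphisms -/
theorem exists_representsHom_bc {G H A : Over S} [GrpObj G] [GrpObj H] {υ : G ⊗ A ⟶ H}
    (hA : AutFam.RepresentsHom G H A υ) :
    ∃ υ' : Red.bc j G ⊗ Red.bc j A ⟶ Red.bc j H,
      AutFam.RepresentsHom (Red.bc j G) (Red.bc j H) (Red.bc j A) υ' := by
  let ε := ((Over.mapPullbackAdj j).homEquiv (Red.bc j A) A).symm (𝟙 _)
  refine ⟨famBC j ((G ◁ ε) ≫ υ), (isHomFamily_famBC j _).mpr ?_, fun T φ hφ ↦ ?_⟩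
  · intro X a b t
    rw [lift_whiskerLeft_assoc, lift_whiskerLeft_assoc, lift_whiskerLeft_assoc]
    exact hA.1 X a b (t ≫ ε)
  · obtain ⟨φ₀, rfl⟩ := (famBC_bijective j G H T).2 φ
    obtain ⟨v, hv, huv⟩ := hA.2 _ φ₀ ((isHomFamily_famBC j φ₀).mp hφ)
    have key : ∀ w : T ⟶ Red.bc j A, (Red.bc j G ◁ w) ≫ famBC j ((G ◁ ε) ≫ υ) = famBC j φ₀ ↔
        (G ◁ ((Over.mapPullbackAdj j).homEquiv T A).symm w) ≫ υ = φ₀ := by
      intro w
      rw [famBC_whiskerLeft, (famBC_bijective j G H T).1.eq_iff, ← whiskerLeft_comp_assoc,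
        show (Over.map j).map w ≫ ε = ((Over.mapPullbackAdj j).homEquiv T A).symm w from
          ((Over.mapPullbackAdj j).homEquiv_naturality_left_symm w (𝟙 _)).symm.trans
            (congrArg _ (Category.comp_id w))]
    refine ⟨(Over.mapPullbackAdj j).homEquiv T A v, (key _).mpr (by rw [Equiv.symm_apply_apply]; exact hv),
      fun w hw ↦ ?_⟩
    rw [← huv _ ((key w).mp hw), Equiv.apply_symm_apply]

/-- transport along isomorphisms of groups -/
theorem exists_representsHom_iso {G G' H H' A : Over S} [GrpObj G] [GrpObj G'] [GrpObj H] [GrpObj H']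
    (e : G ≅ G') [IsMonHom e.hom] (f : H ≅ H') [IsMonHom f.hom] {υ : G ⊗ A ⟶ H}
    (hA : AutFam.RepresentsHom G H A υ) :
    ∃ υ' : G' ⊗ A ⟶ H', AutFam.RepresentsHom G' H' A υ' := by
  have hfam : ∀ {T : Over S} (φ : G ⊗ T ⟶ H),
      AutFam.IsHomFamily G' H' ((e.inv ▷ T) ≫ φ ≫ f.hom) ↔ AutFam.IsHomFamily G H φ := by
    intro T φ
    have hl : ∀ {X : Over S} (c : X ⟶ G') (t : X ⟶ T),
        lift c t ≫ (e.inv ▷ T) ≫ φ ≫ f.hom = (lift (c ≫ e.inv) t ≫ φ) ≫ f.hom := by
      intro X c t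
      rw [lift_whiskerRight_assoc, Category.assoc]
    constructor
    · intro h X a b t
      have := h X (a ≫ e.hom) (b ≫ e.hom) t
      have he : ∀ c : X ⟶ G, (c ≫ e.hom) ≫ e.inv = c := fun c ↦ by
        rw [Category.assoc, Iso.hom_inv_id, Category.comp_id]
      rw [← MonObj.mul_comp, hl, hl, hl, he, he, he, ← MonObj.mul_comp] at this
      exact (cancel_mono f.hom).mp this
    · intro h X a b t
      rw [hl, hl, hl, MonObj.mul_comp, h, MonObj.mul_comp]
  refine ⟨(e.inv ▷ A) ≫ υ ≫ f.hom, (hfam υ).mpr hA.1, fun T φ hφ ↦ ?_⟩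
  obtain ⟨φ₀, rfl⟩ : ∃ φ₀ : G ⊗ T ⟶ H, (e.inv ▷ T) ≫ φ₀ ≫ f.hom = φ :=
    ⟨(e.hom ▷ T) ≫ φ ≫ f.inv, by
      rw [Category.assoc, Category.assoc, f.inv_hom_id, Category.comp_id, ← comp_whiskerRight_assoc,
        e.inv_hom_id, id_whiskerRight, Category.id_comp]⟩
  obtain ⟨v, hv, huv⟩ := hA.2 T φ₀ ((hfam φ₀).mp hφ)
  have key : ∀ w : T ⟶ A, (G' ◁ w) ≫ (e.inv ▷ A) ≫ υ ≫ f.hom = (e.inv ▷ T) ≫ φ₀ ≫ f.hom ↔
      (G ◁ w) ≫ υ = φ₀ := by
    intro w
    rw [whisker_exchange_assoc, cancel_epi, ← Category.assoc, cancel_mono]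
  exact ⟨v, (key v).mpr hv, fun w hw ↦ huv w ((key w).mp hw)⟩

end Groth.Agent.HomRep
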