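import Groth.Agent.HomRep.BC
import Groth.Agent.MTBridge.NilHom

/-!
# Homomorphisms of diagonalisable groups over fields
-/

set_option autoImplicit false
set_option backward.isDefEq.respectTransparency false
set_option maxHeartbeats 800000
set_option synthInstance.maxHeartbeats 400000

universe u

open CategoryTheory Limits MonoidalCategory CartesianMonoidalCategory AlgebraicGeometry TensorProduct
  WithConv MonoidAlgebra
open scoped CategoryTheory.Obj MonObj

namespace Groth.Agent.HomRep

open Groth.Agent.MTBridge

lemma mext {R : Type u} [CommRing R] {B : Type u} [CommRing B] [Algebra R B] {M : Type u} [CommGroup M]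
    {φ₁ φ₂ : MonoidAlgebra R M →ₐ[R] B}
    (h : ∀ m, φ₁ (MonoidAlgebra.single m 1) = φ₂ (MonoidAlgebra.single m 1)) : φ₁ = φ₂ :=
  MonoidAlgebra.algHom_ext h (Subsingleton.elim _ _)

lemma coeff_mul_inl_inr {K : Type u} [CommRing K] {M : Type u} [CommGroup M] (g h : MonoidAlgebra K M)
    (m m' : M) :
    (mapDomainAlgHom K K (MonoidHom.inl M M) g * mapDomainAlgHom K K (MonoidHom.inr M M) h).coeff (m, m') =
      g.coeff m * h.coeff m' := by
  classical
  induction g using MonoidAlgebra.induction_linear with
  | zero => simp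
  | add a b ha hb =>
    rw [map_add, add_mul, MonoidAlgebra.coeff_add, MonoidAlgebra.coeff_add, Finsupp.add_apply,
      Finsupp.add_apply, ha, hb, add_mul]
  | single a r =>
    induction h using MonoidAlgebra.induction_linear with
    | zero => simp
    | add c d hc hd =>
      rw [map_add, mul_add, MonoidAlgebra.coeff_add, MonoidAlgebra.coeff_add, Finsupp.add_apply,
        Finsupp.add_apply, hc, hd, mul_add]
    | single c t =>
      rw [show mapDomainAlgHom K K (MonoidHom.inl M M) (MonoidAlgebra.single a r) =
          MonoidAlgebra.single (a, 1) r from MonoidAlgebra.mapDomain_single,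
        show mapDomainAlgHom K K (MonoidHom.inr M M) (MonoidAlgebra.single c t) =
          MonoidAlgebra.single (1, c) t from MonoidAlgebra.mapDomain_single,
        MonoidAlgebra.single_mul_single, Prod.mk_mul_mk, mul_one, one_mul]
      simp [Finsupp.single_apply]
      split_ifs <;> simp_all

lemma eq_single_of_diag {K : Type u} [Field K] {M : Type u} [CommGroup M] {g : MonoidAlgebra K M}
    (hu : g ≠ 0)
    (h : mapDomainAlgHom K K ((MonoidHom.id M).prod (MonoidHom.id M)) g =
      mapDomainAlgHom K K (MonoidHom.inl M M) g * mapDomainAlgHom K K (MonoidHom.inr M M) g) :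
    ∃ m, g = MonoidAlgebra.single m 1 := by
  classical
  have hc : ∀ m m' : M, (if m = m' then g.coeff m else 0) = g.coeff m * g.coeff m' := by
    intro m m'
    rw [← coeff_mul_inl_inr, ← h]
    clear h hu
    induction g using MonoidAlgebra.induction_linear with
    | zero => simp
    | add a b ha hb =>
      rw [map_add, MonoidAlgebra.coeff_add, MonoidAlgebra.coeff_add, Finsupp.add_apply, Finsupp.add_apply,
        ← ha, ← hb]
      split_ifs <;> simp
    | single a r =>
      rw [show mapDomainAlgHom K K ((MonoidHom.id M).prod (MonoidHom.id M)) (MonoidAlgebra.single a r) =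
          MonoidAlgebra.single (a, a) r from MonoidAlgebra.mapDomain_single]
      simp [Finsupp.single_apply]
      by_cases h1 : m = m' <;> by_cases h2 : a = m <;> by_cases h3 : a = m' <;> simp_all
  obtain ⟨m, hm⟩ : ∃ m, g.coeff m ≠ 0 := by
    by_contra hh
    push Not at hh
    exact hu (MonoidAlgebra.coeff_injective (Finsupp.ext fun m ↦ by simpa using hh m))
  refine ⟨m, MonoidAlgebra.coeff_injective (Finsupp.ext fun m' ↦ ?_)⟩
  have h1 : g.coeff m = 1 := by
    have := hc m m
    rw [if_pos rfl] at this
    exact mul_left_cancel₀ hm (by rw [← this, mul_one])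
  by_cases hmm : m = m'
  · subst hmm
    simp [h1]
  · have := hc m m'
    rw [if_neg hmm, h1, one_mul] at this
    simp [← this, hmm]

variable {R : Type u} [CommRing R]

lemma conv_single {P : Type u} [CommRing P] [Algebra R P] {N : Type u} [CommGroup N]
    (χ χ' : MonoidAlgebra R N →ₐ[R] P) (n : N) :
    (toConv χ * toConv χ').ofConv (MonoidAlgebra.single n 1) =
      χ (MonoidAlgebra.single n 1) * χ' (MonoidAlgebra.single n 1) := by
  rw [AlgHom.convMul_apply]
  simp

lemma spMap_mul {P A : Type u} [CommRing P] [Algebra R P] [CommRing A] [HopfAlgebra R A]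
    (χ χ' : A →ₐ[R] P) :
    (spMap χ * spMap χ' : Pt (specGrp R A).X P) = spMap (toConv χ * toConv χ').ofConv := by
  rw [spMap_eq_pt, spMap_eq_pt, spMap_eq_pt, toConv_ofConv]
  exact (map_mul Spec.mapMulEquiv _ _).symm

variable {M N : Type u} [CommGroup M] [CommGroup N]

/-- the homomorphism given by a map of character groups -/
noncomputable def dHom (φ : N →* M) :
    (specGrp R (MonoidAlgebra R M)).X ⟶ (specGrp R (MonoidAlgebra R N)).X :=
  spMap (mapDomainAlgHom R R φ)

instance (φ : N →* M) : IsMonHom (dHom (R := R) φ) := by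
  refine isMonHom_of_homMod_bot _ fun T _ _ _ x y ↦ ?_
  obtain ⟨χ, rfl⟩ := exists_pt x
  obtain ⟨χ', rfl⟩ := exists_pt y
  rw [spMap_mul, dHom, spMap_comp, spMap_comp, spMap_comp, spMap_mul]
  refine congrArg spMap (mext (fun n ↦ ?_))
  simp [conv_single]

/-- families of homomorphisms of diagonalisable groups over a field are given by maps of characters -/
theorem exists_dHom_of_field [Finite M] {K : Type u} [Field K] [Algebra R K]
    (f : (specGrp R (MonoidAlgebra R M)).X ⊗ (Spec (CommRingCat.of K)).asOver (Spec (CommRingCat.of R)) ⟶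
      (specGrp R (MonoidAlgebra R N)).X)
    (hf : AutFam.IsHomFamily _ _ f) :
    ∃ φ : N →* M, f = fst _ _ ≫ dHom φ := by
  classical
  let G := (specGrp R (MonoidAlgebra R M)).X
  let T := (Spec (CommRingCat.of K)).asOver (Spec (CommRingCat.of R))
  let ιM : MonoidAlgebra R M →ₐ[R] MonoidAlgebra K M := mapAlgHom M (Algebra.ofId R K)
  let ιK : K →ₐ[R] MonoidAlgebra K M := IsScalarTower.toAlgHom R K _
  let k : Pt (G ⊗ T) (MonoidAlgebra K M) := lift (spMap ιM) (spMap ιK)
  haveI : Epi k := by
    haveI : IsIso k.left := by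
      let e : K ⊗[R] MonoidAlgebra R M ≃ₐ[R] MonoidAlgebra K M :=
        (MonoidAlgebra.scalarTensorEquiv R K).restrictScalars R
      let r := Algebra.TensorProduct.comm R (MonoidAlgebra R M) K
      haveI : IsIso (Spec.map (CommRingCat.ofHom (r.trans e).toAlgHom.toRingHom)) := by
        rw [show CommRingCat.ofHom (r.trans e).toAlgHom.toRingHom =
          (r.trans e).toRingEquiv.toCommRingCatIso.hom from rfl]
        infer_instance
      have hk : k.left = Spec.map (CommRingCat.ofHom (r.trans e).toAlgHom.toRingHom) ≫
          (pullbackSpecIso R (MonoidAlgebra R M) K).inv := by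
        apply pullback.hom_ext
        · rw [show k.left ≫ pullback.fst _ _ = (k ≫ fst _ _).left from rfl, lift_fst, spMap_left,
            Category.assoc]
          erw [pullbackSpecIso_inv_fst]
          rw [← Spec.map_comp]
          congr 1
          ext : 1
          refine congrArg (fun g : MonoidAlgebra R M →ₐ[R] MonoidAlgebra K M ↦ g.toRingHom)
            (mext (φ₁ := ιM)
              (φ₂ := (r.trans e).toAlgHom.comp Algebra.TensorProduct.includeLeft) (fun m ↦ ?_))
          simp [ιM, r, e]
        · rw [show k.left ≫ pullback.snd _ _ = (k ≫ snd _ _).left from rfl, lift_snd, spMap_left,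
            Category.assoc]
          erw [pullbackSpecIso_inv_snd]
          rw [← Spec.map_comp]
          congr 1
          ext : 1
          refine congrArg (fun g : K →ₐ[R] MonoidAlgebra K M ↦ g.toRingHom)
            (AlgHom.ext (φ₁ := ιK) (φ₂ := (r.trans e).toAlgHom.comp Algebra.TensorProduct.includeRight)
              (fun x ↦ ?_))
          simp [ιK, r, e, MonoidAlgebra.scalarTensorEquiv_tmul, Algebra.smul_def]
      rw [hk]
      infer_instance
    exact Over.epi_of_epi_left _
  obtain ⟨F, hF⟩ := exists_pt (R := R) (A := MonoidAlgebra R N) (k ≫ f)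
  let P := MonoidAlgebra K (M × M)
  let J : (M →* M × M) → (MonoidAlgebra K M →ₐ[R] P) := fun ψ ↦ (mapDomainAlgHom K K ψ).restrictScalars R
  let tP : K →ₐ[R] P := IsScalarTower.toAlgHom R K P
  have hJ : ∀ ψ, lift (spMap ((J ψ).comp ιM) : Pt G P) (spMap tP) ≫ f = spMap ((J ψ).comp F) := by
    intro ψ
    rw [← spMap_comp, ← spMap_comp, ← hF, ← Category.assoc]
    congr 1
    rw [comp_lift, spMap_comp, spMap_comp]
    congr 2
    exact AlgHom.ext fun x ↦ ((mapDomainAlgHom K K ψ).commutes x).symm
  have hd : spMap ((J (.inl M M)).comp ιM) * spMap ((J (.inr M M)).comp ιM) =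
      (spMap ((J ((MonoidHom.id M).prod (MonoidHom.id M))).comp ιM) : Pt G P) := by
    rw [spMap_mul]
    refine congrArg spMap (mext fun m ↦ ?_)
    simp [J, ιM]
    change MonoidAlgebra.mapDomain (MonoidHom.inl M M) (MonoidAlgebra.single m (1 : K)) *
        MonoidAlgebra.mapDomain (MonoidHom.inr M M) (MonoidAlgebra.single m (1 : K)) =
      MonoidAlgebra.mapDomain ((MonoidHom.id M).prod (MonoidHom.id M)) (MonoidAlgebra.single m (1 : K))
    simp [MonoidAlgebra.mapDomain_single, MonoidAlgebra.single_mul_single]
  have h1 : ∀ n : N, ∃ m : M, F (MonoidAlgebra.single n 1) = MonoidAlgebra.single m 1 := by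
    intro n
    have := hf _ (spMap ((J (.inl M M)).comp ιM)) (spMap ((J (.inr M M)).comp ιM)) (spMap tP)
    rw [hd, hJ, hJ, hJ, spMap_mul] at this
    have h2 := congrArg (fun q ↦ q.hom (MonoidAlgebra.single n 1))
      (Spec.map_injective (congrArg CommaMorphism.left this))
    simp only [CommRingCat.hom_ofHom] at h2
    refine eq_single_of_diag (fun h0 ↦ ?_) (h2.trans (conv_single _ _ n))
    have h3 : F (MonoidAlgebra.single n 1 * MonoidAlgebra.single n⁻¹ 1) = 1 := by
      rw [MonoidAlgebra.single_mul_single, mul_inv_cancel, mul_one, ← MonoidAlgebra.one_def, map_one]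
    rw [map_mul, h0, zero_mul] at h3
    exact zero_ne_one h3
  choose φ hφ using h1
  refine ⟨MonoidHom.mk' φ fun a b ↦ MonoidAlgebra.single_left_injective (R := K) one_ne_zero ?_, ?_⟩
  · dsimp only
    rw [← hφ, ← mul_one (1 : R), ← MonoidAlgebra.single_mul_single, map_mul, hφ, hφ,
      MonoidAlgebra.single_mul_single, mul_one]
  · rw [← cancel_epi k, hF, lift_fst_assoc, dHom, spMap_comp]
    refine congrArg spMap (mext fun n ↦ ?_)
    simp [hφ, ιM]

end Groth.Agent.HomRep
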