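import Groth.Agent.HomRep.RepGlue

/-!
# The presheaf `T ↦ Hom(X × T, Y)` glues
-/

set_option autoImplicit false
set_option backward.isDefEq.respectTransparency false

universe u

open CategoryTheory CategoryTheory.Limits AlgebraicGeometry TopologicalSpace Opposite
  MonoidalCategory CartesianMonoidalCategory

namespace Groth.Agent.HomRep

open Scheme (AffineZariskiSite)

variable {S : Scheme.{u}} (X Y : Over S)

/-- the presheaf of families of morphisms -/
noncomputable def homFunctor : (Over S)ᵒᵖ ⥤ Type u := (tensorLeft X).op ⋙ yoneda.obj Y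

lemma homFunctor_map {T T' : Over S} (v : T' ⟶ T) (x : X ⊗ T ⟶ Y) :
    (homFunctor X Y).map v.op x = (X ◁ v) ≫ x := rfl

lemma whiskerLeft_left_eq {T T' : Over S} (v : T' ⟶ T) :
    (X ◁ v).left = pullback.lift (f := X.hom) (g := T.hom) (pullback.fst X.hom T'.hom)
      (pullback.snd X.hom T'.hom ≫ v.left) (by rw [Category.assoc, Over.w, pullback.condition]) := by
  apply pullback.hom_ext
  · rw [Over.whiskerLeft_left_fst, pullback.lift_fst]
  · rw [Over.whiskerLeft_left_snd, pullback.lift_snd]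

/-- a piece of a cover as an object over the base -/
noncomputable abbrev piece {T : Over S} (𝒰 : T.left.OpenCover) (i : 𝒰.I₀) : Over S :=
  Over.mk (𝒰.f i ≫ T.hom)

noncomputable abbrev pieceMap {T : Over S} (𝒰 : T.left.OpenCover) (i : 𝒰.I₀) : piece 𝒰 i ⟶ T :=
  Over.homMk (𝒰.f i) rfl

noncomputable abbrev pieceTrans {T : Over S} (𝒰 : T.left.OpenCover) [Category 𝒰.I₀]
    [Scheme.Cover.LocallyDirected 𝒰] {i j : 𝒰.I₀} (h : i ⟶ j) : piece 𝒰 i ⟶ piece 𝒰 j :=
  Over.homMk (Scheme.Cover.trans 𝒰 h) (by simp [← Category.assoc])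

lemma pieceTrans_pieceMap {T : Over S} (𝒰 : T.left.OpenCover) [Category 𝒰.I₀]
    [Scheme.Cover.LocallyDirected 𝒰] {i j : 𝒰.I₀} (h : i ⟶ j) :
    pieceTrans 𝒰 h ≫ pieceMap 𝒰 j = pieceMap 𝒰 i :=
  Over.OverMorphism.ext (Scheme.Cover.trans_map 𝒰 h)

/-- morphisms out of `X × T` glue along covers of `T` -/
theorem existsUnique_hom_glue {T : Over S} (𝒰 : T.left.OpenCover) [Category 𝒰.I₀]
    [Scheme.Cover.LocallyDirected 𝒰] (φ : ∀ i, X ⊗ piece 𝒰 i ⟶ Y)
    (hφ : ∀ {i j : 𝒰.I₀} (h : i ⟶ j), (X ◁ pieceTrans 𝒰 h) ≫ φ j = φ i) :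
    ∃! z : X ⊗ T ⟶ Y, ∀ i, (X ◁ pieceMap 𝒰 i) ≫ z = φ i := by
  let 𝒱 : (pullback X.hom T.hom).OpenCover := 𝒰.pullback₁ (pullback.snd X.hom T.hom)
  letI : Category 𝒱.I₀ := inferInstanceAs (Category (𝒰.pullback₁ (pullback.snd X.hom T.hom)).I₀)
  letI : Scheme.Cover.LocallyDirected 𝒱 :=
    Scheme.Cover.locallyDirectedPullbackCover 𝒰 (pullback.snd X.hom T.hom)
  let e : ∀ i : 𝒰.I₀, pullback (pullback.snd X.hom T.hom) (𝒰.f i) ≅ pullback X.hom (𝒰.f i ≫ T.hom) :=
    fun i ↦ pullbackLeftPullbackSndIso _ _ _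
  have hef : ∀ i : 𝒰.I₀, (e i).inv ≫ pullback.fst _ _ = (X ◁ pieceMap 𝒰 i).left := by
    intro i
    rw [whiskerLeft_left_eq]
    apply pullback.hom_ext
    · simp [e]
    · simp [e, pullback.condition]
  have het : ∀ {i j : 𝒰.I₀} (h : i ⟶ j), Scheme.Cover.trans 𝒱 h ≫ (e j).hom =
      (e i).hom ≫ (X ◁ pieceTrans 𝒰 h).left := by
    intro i j h
    change pullback.map _ _ _ _ (𝟙 _) (Scheme.Cover.trans 𝒰 h) (𝟙 _) (by simp) (by simp) ≫ (e j).hom = _
    rw [whiskerLeft_left_eq]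
    apply pullback.hom_ext
    · simp [e]
    · simp [e]
  let g : ∀ i, 𝒱.X i ⟶ Y.left := fun i ↦ (e i).hom ≫ (φ i).left
  have hg : ∀ {i j : 𝒱.I₀} (h : i ⟶ j), Scheme.Cover.trans 𝒱 h ≫ g j = g i := by
    intro i j h
    change Scheme.Cover.trans 𝒱 h ≫ (e j).hom ≫ (φ j).left = (e i).hom ≫ (φ i).left
    rw [reassoc_of% (het h)]
    exact congrArg ((e i).hom ≫ ·) (congrArg CommaMorphism.left (hφ h))
  refine ⟨Scheme.OpenCover.glueMorphismsOverOfLocallyDirected (X := X ⊗ T) 𝒱 g hg fun i ↦ ?_,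
    fun i ↦ ?_, fun z hz ↦ ?_⟩
  · change ((e i).hom ≫ (φ i).left) ≫ Y.hom = pullback.fst _ _ ≫ (X ⊗ T).hom
    have h1 : pullback.fst _ _ = (e i).hom ≫ (X ◁ pieceMap 𝒰 i).left := by
      rw [← hef, Iso.hom_inv_id_assoc]
    rw [h1, Category.assoc, Category.assoc, Over.w, Over.w]
  · apply Over.OverMorphism.ext
    rw [Over.comp_left, ← hef, Category.assoc, Iso.inv_comp_eq]
    exact Scheme.OpenCover.map_glueMorphismsOverOfLocallyDirected_left (X := X ⊗ T) 𝒱 g hg _ i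
  · apply Over.OverMorphism.ext
    refine 𝒱.hom_ext _ _ fun i ↦ ?_
    refine Eq.trans ?_
      (Scheme.OpenCover.map_glueMorphismsOverOfLocallyDirected_left (X := X ⊗ T) 𝒱 g hg _ i).symm
    change pullback.fst _ _ ≫ z.left = (e i).hom ≫ (φ i).left
    rw [← hz i, Over.comp_left, ← hef, Category.assoc, Iso.hom_inv_id_assoc]

theorem glues_homFunctor : Glues (homFunctor X Y) := by
  intro T y hy
  let 𝒰 : T.left.OpenCover := (AffineZariskiSite.directedCover S).pullback₁ T.hom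
  letI : Category 𝒰.I₀ :=
    inferInstanceAs (Category ((AffineZariskiSite.directedCover S).pullback₁ T.hom).I₀)
  letI : Scheme.Cover.LocallyDirected 𝒰 :=
    Scheme.Cover.locallyDirectedPullbackCover (AffineZariskiSite.directedCover S) T.hom
  let e : ∀ U : S.AffineZariskiSite, piece 𝒰 U ≅ restr T U.1 := fun U ↦
    Over.isoMk (pullbackRestrictIsoRestrict T.hom U.1)
      (pullbackRestrictIsoRestrict_hom_ι_assoc T.hom U.1 T.hom)
  have he : ∀ U : S.AffineZariskiSite, (e U).hom ≫ incl T U.1 = pieceMap 𝒰 U := fun U ↦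
    Over.OverMorphism.ext (pullbackRestrictIsoRestrict_hom_ι T.hom U.1)
  have het : ∀ {V U : S.AffineZariskiSite} (h : V ⟶ U), pieceTrans 𝒰 h ≫ (e U).hom =
      (e V).hom ≫ inclLE T (AffineZariskiSite.toOpens_mono h.le) := by
    intro V U h
    apply Over.OverMorphism.ext
    rw [← cancel_mono (incl T U.1).left, ← Over.comp_left, ← Over.comp_left, Category.assoc,
      Category.assoc, he, inclLE_incl, he, pieceTrans_pieceMap]
  obtain ⟨z, hz, huz⟩ := existsUnique_hom_glue X Y 𝒰 (fun U ↦ (X ◁ (e U).hom) ≫ y U) fun {V U} h ↦ by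
    rw [← whiskerLeft_comp_assoc, het h, whiskerLeft_comp_assoc]
    exact congrArg (_ ≫ ·) (hy V U (CategoryTheory.leOfHom (show @Quiver.Hom S.AffineZariskiSite _ V U from h)))
  refine ⟨z, fun U ↦ ?_, fun z' hz' ↦ huz z' fun U ↦ ?_⟩
  · change (X ◁ incl T U.1) ≫ z = y U
    rw [← cancel_epi (X ◁ (e U).hom), ← whiskerLeft_comp_assoc, he]
    exact hz U
  · rw [← he, whiskerLeft_comp_assoc]
    exact congrArg (_ ≫ ·) (hz' U)

end Groth.Agent.HomRep
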