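import Groth.Agent.HomRep.HomLocal
import Groth.Prelude.Def_AutFam
import Groth.Agent.LimDesc.FPCancel

/-!
# The scheme of morphisms out of a finite locally free scheme
-/

set_option autoImplicit false
set_option backward.isDefEq.respectTransparency false

universe u

open CategoryTheory CategoryTheory.Limits AlgebraicGeometry TopologicalSpace Opposite
  MonoidalCategory CartesianMonoidalCategory MonObj

namespace Groth.Agent.HomRep

open Scheme (AffineZariskiSite)

variable {S : Scheme.{u}}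

/-- `Hom(X, Y)` for `X` finite locally free and `Y` affine -/
theorem exists_homScheme (X Y : Over S) [IsFinite X.hom] [Flat X.hom]
    [LocallyOfFinitePresentation X.hom] [IsAffineHom Y.hom] :
    ∃ (M : Over S) (ev : X ⊗ M ⟶ Y), IsAffineHom M.hom ∧
      (LocallyOfFiniteType Y.hom → LocallyOfFiniteType M.hom) ∧
      (LocallyOfFinitePresentation Y.hom → LocallyOfFinitePresentation M.hom) ∧
      ∀ (T : Over S) (φ : X ⊗ T ⟶ Y), ∃! v : T ⟶ M, (X ◁ v) ≫ ev = φ := by
  choose R hft hfp using fun U : S.AffineZariskiSite ↦ exists_rep U.2 X Y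
  obtain ⟨A, x, hA, huniv, hQ⟩ := exists_representing (glues_homFunctor X Y) R
  refine ⟨A, x, hA, fun h ↦ ?_, fun h ↦ ?_, huniv⟩
  · refine hQ @LocallyOfFiniteType fun U ↦ ?_
    haveI : LocallyOfFiniteType (toOpen R U ≫ U.1.ι) := by rw [toOpen_ι]; exact hft U h
    exact locallyOfFiniteType_of_comp (toOpen R U) U.1.ι
  · refine hQ @LocallyOfFinitePresentation fun U ↦ ?_
    haveI : LocallyOfFinitePresentation (toOpen R U ≫ U.1.ι) := by rw [toOpen_ι]; exact hfp U h
    exact Groth.Agent.LimDesc.lfp_of_comp (toOpen R U) U.1.ι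

lemma lfp_equalizer_ι_left {A N : Over S} [LocallyOfFiniteType N.hom] (f g : A ⟶ N) :
    LocallyOfFinitePresentation (equalizer.ι f g).left := by
  refine MorphismProperty.of_isPullback
    ((Limits.isPullback_equalizer_prod f g).map (Over.forget _)).flip ?_
  rw [← MorphismProperty.cancel_right_of_respectsIso @LocallyOfFinitePresentation _
    (Over.prodLeftIsoPullback N N).hom]
  haveI : LocallyOfFinitePresentation (pullback.diagonal N.hom ≫ pullback.fst N.hom N.hom) := by
    rw [pullback.diagonal_fst]; infer_instance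
  convert! Groth.Agent.LimDesc.lfp_of_comp (pullback.diagonal N.hom) (pullback.fst N.hom N.hom)
  ext1 <;> simp [← Over.comp_left]

/-- families of group homomorphisms as an equality of two families -/
theorem isHomFamily_iff (G G' : Over S) [GrpObj G] [GrpObj G'] {T : Over S} (φ : G ⊗ T ⟶ G') :
    AutFam.IsHomFamily G G' φ ↔
      (MonObj.mul (X := G) ▷ T) ≫ φ =
        (lift (fst (G ⊗ G) T ≫ fst G G) (snd (G ⊗ G) T) ≫ φ) *
          (lift (fst (G ⊗ G) T ≫ snd G G) (snd (G ⊗ G) T) ≫ φ) := by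
  constructor
  · intro h
    rw [← h ((G ⊗ G) ⊗ T) (fst _ _ ≫ fst G G) (fst _ _ ≫ snd G G) (snd _ _)]
    congr 1
    apply CartesianMonoidalCategory.hom_ext
    · rw [whiskerRight_fst, lift_fst, Hom.mul_def, ← comp_lift, lift_fst_snd, Category.comp_id]
    · rw [whiskerRight_snd, lift_snd]
  · intro h X a b t
    have := congrArg (lift (lift a b) t ≫ ·) h
    simp only [comp_mul, ← Category.assoc, comp_lift, lift_fst_assoc, lift_fst, lift_snd] at this
    rw [← this, Hom.mul_def]
    congr 1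
    apply CartesianMonoidalCategory.hom_ext <;> simp [← Category.assoc]

/-- `Hom_gr(G, G')` for `G` finite locally free and `G'` affine -/
theorem exists_homGrpScheme (G G' : Over S) [GrpObj G] [GrpObj G'] [IsFinite G.hom] [Flat G.hom]
    [LocallyOfFinitePresentation G.hom] [IsAffineHom G'.hom] :
    ∃ (A : Over S) (υ : G ⊗ A ⟶ G'), AutFam.RepresentsHom G G' A υ ∧ IsAffineHom A.hom ∧
      (LocallyOfFiniteType G'.hom → LocallyOfFiniteType A.hom) ∧
      (LocallyOfFinitePresentation G'.hom → LocallyOfFinitePresentation A.hom) := by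
  haveI : IsFinite (G ⊗ G).hom :=
    inferInstanceAs (IsFinite (pullback.fst G.hom G.hom ≫ G.hom))
  haveI : Flat (G ⊗ G).hom :=
    inferInstanceAs (Flat (pullback.fst G.hom G.hom ≫ G.hom))
  haveI : LocallyOfFinitePresentation (G ⊗ G).hom :=
    inferInstanceAs (LocallyOfFinitePresentation (pullback.fst G.hom G.hom ≫ G.hom))
  obtain ⟨M, ev, hMa, hMft, hMfp, hM⟩ := exists_homScheme G G'
  obtain ⟨N, ev', hNa, hNft, hNfp, hN⟩ := exists_homScheme (G ⊗ G) G'
  obtain ⟨p, hp, -⟩ := hN M ((MonObj.mul (X := G) ▷ M) ≫ ev)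
  obtain ⟨q, hq, -⟩ := hN M ((lift (fst (G ⊗ G) M ≫ fst G G) (snd (G ⊗ G) M) ≫ ev) *
    (lift (fst (G ⊗ G) M ≫ snd G G) (snd (G ⊗ G) M) ≫ ev))
  have key : ∀ (T : Over S) (v : T ⟶ M),
      AutFam.IsHomFamily G G' ((G ◁ v) ≫ ev) ↔ v ≫ p = v ≫ q := by
    intro T v
    have hvp : ((G ⊗ G) ◁ (v ≫ p)) ≫ ev' = (MonObj.mul (X := G) ▷ T) ≫ (G ◁ v) ≫ ev := by
      rw [whiskerLeft_comp_assoc, hp, whisker_exchange_assoc]
    have hvq : ((G ⊗ G) ◁ (v ≫ q)) ≫ ev' =
        (lift (fst (G ⊗ G) T ≫ fst G G) (snd (G ⊗ G) T) ≫ (G ◁ v) ≫ ev) *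
          (lift (fst (G ⊗ G) T ≫ snd G G) (snd (G ⊗ G) T) ≫ (G ◁ v) ≫ ev) := by
      rw [whiskerLeft_comp_assoc, hq, comp_mul, lift_whiskerLeft_assoc, lift_whiskerLeft_assoc]
      congr 1 <;>
      · rw [← Category.assoc]
        congr 1
        apply CartesianMonoidalCategory.hom_ext <;> simp
    rw [isHomFamily_iff, ← hvp, ← hvq]
    exact ⟨fun h ↦ (hN T _).unique h rfl, fun h ↦ by rw [h]⟩
  haveI : IsSeparated N.hom := inferInstance
  haveI : IsAffineHom (equalizer.ι p q).left := inferInstance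
  refine ⟨equalizer p q, (G ◁ equalizer.ι p q) ≫ ev, ⟨?_, fun T φ hφ ↦ ?_⟩, ?_, fun h ↦ ?_, fun h ↦ ?_⟩
  · exact (key _ _).mpr (equalizer.condition p q)
  · obtain ⟨v, hv, huv⟩ := hM T φ
    refine ⟨equalizer.lift v ((key T v).mp (by rw [hv]; exact hφ)), ?_, fun w hw ↦ ?_⟩
    · dsimp only
      rw [← whiskerLeft_comp_assoc, equalizer.lift_ι, hv]
    · apply equalizer.hom_ext
      rw [equalizer.lift_ι]
      exact huv _ (by dsimp only; rw [whiskerLeft_comp_assoc]; exact hw)
  · rw [← Over.w (equalizer.ι p q)]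
    infer_instance
  · haveI := hMft h
    rw [← Over.w (equalizer.ι p q)]
    infer_instance
  · haveI := hMfp h
    haveI : LocallyOfFinitePresentation N.hom := hNfp h
    haveI := lfp_equalizer_ι_left p q
    rw [← Over.w (equalizer.ι p q)]
    infer_instance

end Groth.Agent.HomRep
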