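import Groth.Agent.HomRep.Split
import Groth.Agent.MTBridge.FlatMT
import Groth.Agent.MultT.ChartEquiv
import Mathlib.AlgebraicGeometry.Morphisms.LocalFlatDescent

/-!
# Homomorphisms between finite groups of multiplicative type form a finite etale scheme
-/

set_option autoImplicit false
set_option linter.style.haveILetI false
set_option backward.isDefEq.respectTransparency false
set_option maxHeartbeats 800000
set_option synthInstance.maxHeartbeats 400000

universe u

open CategoryTheory Limits MonoidalCategory CartesianMonoidalCategory AlgebraicGeometry TensorProduct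
open scoped CategoryTheory.Obj MonObj

namespace Groth.Agent.HomRep

open Groth.Agent.MTBridge

theorem exists_representsHom_grpIso {S : Scheme.{u}} {G G' H H' A : Over S} [GrpObj G] [GrpObj G']
    [GrpObj H] [GrpObj H'] (e : Grp.mk G ≅ Grp.mk G') (f : Grp.mk H ≅ Grp.mk H') {υ : G ⊗ A ⟶ H}
    (hA : AutFam.RepresentsHom G H A υ) : ∃ υ' : G' ⊗ A ⟶ H', AutFam.RepresentsHom G' H' A υ' := by
  let e' : G ≅ G' := (Grp.forget (Over S)).mapIso e
  let f' : H ≅ H' := (Grp.forget (Over S)).mapIso f
  haveI : IsMonHom e'.hom := inferInstanceAs (IsMonHom e.hom.hom.hom)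
  haveI : IsMonHom f'.hom := inferInstanceAs (IsMonHom f.hom.hom.hom)
  exact exists_representsHom_iso e' f' hA

lemma isFinite_of_grpIso {S : Scheme.{u}} {G G' : Over S} [GrpObj G] [GrpObj G']
    (e : Grp.mk G ≅ Grp.mk G') [IsFinite G.hom] : IsFinite G'.hom := by
  haveI : IsIso e.inv.hom.hom.left :=
    inferInstanceAs (IsIso ((Over.forget S).map ((Grp.forget _).map e.inv)))
  rw [show G'.hom = e.inv.hom.hom.left ≫ G.hom from (Over.w e.inv.hom.hom).symm]
  infer_instance

lemma finite_of_isFinite_monoidAlgebra {T : Type u} [CommRing T] [Nontrivial T] {M : Type u} [CommGroup M]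
    (h : IsFinite (specGrp T (MonoidAlgebra T M)).X.hom) : Finite M := by
  haveI : IsFinite (Spec.map (CommRingCat.ofHom (algebraMap T (MonoidAlgebra T M)))) := h
  have h1 := (IsFinite.SpecMap_iff (CommRingCat.ofHom (algebraMap T (MonoidAlgebra T M)))).1 inferInstance
  haveI : Module.Finite T (MonoidAlgebra T M) := RingHom.finite_algebraMap.mp h1
  exact Module.Finite.finite_basis (R := T) (M := MonoidAlgebra T M) (MonoidAlgebra.basis M T)

/-- the affine case -/
theorem finite_etale_affine {R : Type u} [CommRing R] {B C : Type u} [CommRing B] [HopfAlgebra R B]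
    [CommRing C] [HopfAlgebra R C] (hB : SGA3b.IsMultType R B) (hC : SGA3b.IsMultType R C)
    [IsFinite (specGrp R B).X.hom] [IsFinite (specGrp R C).X.hom] {A : Over (Spec (CommRingCat.of R))}
    {υ : (specGrp R B).X ⊗ A ⟶ (specGrp R C).X}
    (hA : AutFam.RepresentsHom _ _ A υ) [IsAffineHom A.hom] [LocallyOfFiniteType A.hom]
    [FormallyUnramified A.hom] : IsFinite A.hom ∧ Etale A.hom := by
  obtain ⟨I, _, c, hcflat, hccov⟩ := Groth.Agent.MultT.exists_finite_charts hB
  obtain ⟨K, _, d, hdflat, hdcov⟩ := Groth.Agent.MultT.exists_finite_charts hC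
  have piece : ∀ i k, IsFinite (pullback.snd A.hom
      (Spec.map (CommRingCat.ofHom (algebraMap R ((c i).S ⊗[R] (d k).S))))) ∧
      Etale (pullback.snd A.hom
      (Spec.map (CommRingCat.ofHom (algebraMap R ((c i).S ⊗[R] (d k).S))))) := by
    intro i k
    let T := (c i).S ⊗[R] (d k).S
    let g := Spec.map (CommRingCat.ofHom (algebraMap R T))
    rcases subsingleton_or_nontrivial T with hT | hT
    · haveI : IsEmpty ↥(Spec (CommRingCat.of T)) := inferInstanceAs (IsEmpty (PrimeSpectrum T))
      haveI : IsEmpty ↥(pullback A.hom g) := Function.isEmpty (pullback.snd A.hom g)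
      haveI : IsIso (pullback.snd A.hom g) := isIso_of_isEmpty _
      exact ⟨inferInstance, inferInstance⟩
    letI : Algebra (d k).S T := Algebra.TensorProduct.rightAlgebra
    haveI : IsScalarTower R (d k).S T := .of_algebraMap_eq fun r ↦ by
      change algebraMap R T r = (1 : (c i).S) ⊗ₜ[R] algebraMap R (d k).S r
      rw [Algebra.algebraMap_eq_smul_one (A := (d k).S), ← TensorProduct.smul_tmul,
        Algebra.TensorProduct.algebraMap_apply, Algebra.smul_def, mul_one]
    obtain ⟨eB, -⟩ := (c i).exists_bialgEquiv_tmul T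
    obtain ⟨eC, -⟩ := (d k).exists_bialgEquiv_tmul T
    obtain ⟨fB₁⟩ := nonempty_bc_specGrp R T B
    obtain ⟨fC₁⟩ := nonempty_bc_specGrp R T C
    obtain ⟨fB₂⟩ := nonempty_specGrp_iso eB.symm
    obtain ⟨fC₂⟩ := nonempty_specGrp_iso eC.symm
    haveI : IsFinite (Red.bc g (specGrp R B).X).hom := MorphismProperty.pullback_snd _ _ inferInstance
    haveI : IsFinite (Red.bc g (specGrp R C).X).hom := MorphismProperty.pullback_snd _ _ inferInstance
    haveI := finite_of_isFinite_monoidAlgebra (isFinite_of_grpIso (fB₁ ≪≫ fB₂))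
    haveI := finite_of_isFinite_monoidAlgebra (isFinite_of_grpIso (fC₁ ≪≫ fC₂))
    obtain ⟨υ₁, h₁⟩ := exists_representsHom_bc g hA
    obtain ⟨υ₂, h₂⟩ := exists_representsHom_grpIso (fB₁ ≪≫ fB₂) (fC₁ ≪≫ fC₂) h₁
    haveI : IsAffineHom (Red.bc g A).hom := MorphismProperty.pullback_snd _ _ inferInstance
    haveI : LocallyOfFiniteType (Red.bc g A).hom := MorphismProperty.pullback_snd _ _ inferInstance
    haveI : FormallyUnramified (Red.bc g A).hom := MorphismProperty.pullback_snd _ _ inferInstance
    exact finite_etale_of_split h₂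
  let W : I × K → Scheme.{u} := fun p ↦ Spec (CommRingCat.of ((c p.1).S ⊗[R] (d p.2).S))
  let w : ∀ p, W p ⟶ Spec (CommRingCat.of R) := fun p ↦
    Spec.map (CommRingCat.ofHom (algebraMap R ((c p.1).S ⊗[R] (d p.2).S)))
  let g : ∐ W ⟶ Spec (CommRingCat.of R) := Limits.Sigma.desc w
  haveI : ∀ p, Flat (w p) := fun p ↦ Flat.SpecMap_iff.2 (RingHom.flat_algebraMap_iff.2 (by
    haveI := hcflat p.1
    haveI := hdflat p.2
    infer_instance))
  haveI : Flat g := inferInstance
  haveI : Surjective g := ⟨fun p ↦ by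
    obtain ⟨i, q, hq, hqp⟩ := hccov (p : PrimeSpectrum R).asIdeal (p : PrimeSpectrum R).isPrime
    obtain ⟨k, q', hq', hqp'⟩ := hdcov (p : PrimeSpectrum R).asIdeal (p : PrimeSpectrum R).isPrime
    have h1 : Spec.map (CommRingCat.ofHom (algebraMap R (c i).S)) (⟨q, hq⟩ : PrimeSpectrum (c i).S) = p :=
      PrimeSpectrum.ext hqp
    have h2 : Spec.map (CommRingCat.ofHom (algebraMap R (d k).S)) (⟨q', hq'⟩ : PrimeSpectrum (d k).S) = p :=
      PrimeSpectrum.ext hqp'
    obtain ⟨z, hz, -⟩ := Scheme.Pullback.exists_preimage_pullback _ _ (h1.trans h2.symm)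
    refine ⟨(Limits.Sigma.ι W (i, k)) ((pullbackSpecIso R (c i).S (d k).S).hom z), ?_⟩
    rw [← Scheme.Hom.comp_apply, Limits.Sigma.ι_desc, ← Scheme.Hom.comp_apply]
    have h3 : (pullbackSpecIso R (c i).S (d k).S).hom ≫ w (i, k) =
        pullback.fst _ _ ≫ Spec.map (CommRingCat.ofHom (algebraMap R (c i).S)) := by
      rw [← pullbackSpecIso_hom_fst, Category.assoc, ← Spec.map_comp, ← CommRingCat.ofHom_comp]
      rfl
    rw [h3, Scheme.Hom.comp_apply, hz, h1]⟩
  haveI : CompactSpace ↥(∐ W) := inferInstance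
  haveI : QuasiCompact g := inferInstance
  have hg : (@Surjective ⊓ @Flat ⊓ @QuasiCompact : MorphismProperty Scheme.{u}) g := ⟨⟨‹_›, ‹_›⟩, ‹_›⟩
  have hloc : ∀ (P : MorphismProperty Scheme.{u}) [IsZariskiLocalAtTarget P],
      (∀ p, P (pullback.snd A.hom (w p))) → P (pullback.snd A.hom g) := by
    intro P _ hP
    refine IsZariskiLocalAtTarget.of_openCover (sigmaOpenCover W) fun p ↦ ?_
    change P (pullback.snd (pullback.snd A.hom g) (Limits.Sigma.ι W p))
    rw [← pullbackLeftPullbackSndIso_hom_snd A.hom g (Limits.Sigma.ι W p),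
      MorphismProperty.cancel_left_of_respectsIso P]
    have h : ∀ f, f = w p → P (pullback.snd A.hom f) := fun f hf ↦ hf ▸ hP p
    exact h _ (Limits.Sigma.ι_desc _ _)
  have het : Etale A.hom :=
    MorphismProperty.of_pullback_snd_of_descendsAlong (P := @Etale) hg (hloc _ fun p ↦ (piece p.1 p.2).2)
  have huc : UniversallyClosed A.hom :=
    MorphismProperty.of_pullback_snd_of_descendsAlong (P := @UniversallyClosed) hg (hloc _ fun p ↦ by
      haveI := (piece p.1 p.2).1
      change UniversallyClosed (pullback.snd A.hom (w p))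
      haveI : IsFinite (pullback.snd A.hom (w p)) := (piece p.1 p.2).1
      infer_instance)
  exact ⟨(IsFinite.iff_isIntegralHom_and_locallyOfFiniteType _).mpr
    ⟨IsIntegralHom.iff_universallyClosed_and_isAffineHom.mpr ⟨huc, inferInstance⟩, inferInstance⟩, het⟩

/-- `Hom` between finite groups of multiplicative type -/
theorem exists_hom_finite_etale {S : Scheme.{u}} (G H : Over S) [GrpObj G] [GrpObj H]
    (hG : SGA3x.IsMultTypeFT G) [IsFinite G.hom] (hH : SGA3x.IsMultTypeFT H) [IsFinite H.hom] :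
    ∃ (A : Over S) (υ : G ⊗ A ⟶ H), AutFam.RepresentsHom G H A υ ∧ IsFinite A.hom ∧ Etale A.hom := by
  haveI := flat_of_isMultTypeFT G hG
  haveI := locallyOfFinitePresentation_of_isMultTypeFT G hG
  haveI := locallyOfFinitePresentation_of_isMultTypeFT H hH
  obtain ⟨A, υ, hA, hAaff, -, hAfp⟩ := exists_homGrpScheme G H
  haveI := hAfp inferInstance
  haveI := formallyUnramified_of_representsHom hG hH hA
  refine ⟨A, υ, hA, ?_⟩
  have key : ∀ i, IsFinite (pullback.snd A.hom (S.affineCover.f i)) ∧
      Etale (pullback.snd A.hom (S.affineCover.f i)) := by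
    intro i
    let j := S.affineCover.f i
    obtain ⟨B, _, _, hB, -, ⟨eB⟩⟩ := exists_hopf (Red.bc j G) (isMultTypeFT_bc G j hG)
    obtain ⟨C, _, _, hC, -, ⟨eC⟩⟩ := exists_hopf (Red.bc j H) (isMultTypeFT_bc H j hH)
    haveI : IsFinite (Red.bc j G).hom := MorphismProperty.pullback_snd _ _ inferInstance
    haveI : IsFinite (Red.bc j H).hom := MorphismProperty.pullback_snd _ _ inferInstance
    haveI := isFinite_of_grpIso eB
    haveI := isFinite_of_grpIso eC
    obtain ⟨υ₁, h₁⟩ := exists_representsHom_bc j hA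
    obtain ⟨υ₂, h₂⟩ := exists_representsHom_grpIso eB eC h₁
    haveI : IsAffineHom (Red.bc j A).hom := MorphismProperty.pullback_snd _ _ inferInstance
    haveI : LocallyOfFiniteType (Red.bc j A).hom := MorphismProperty.pullback_snd _ _ inferInstance
    haveI : FormallyUnramified (Red.bc j A).hom := MorphismProperty.pullback_snd _ _ inferInstance
    exact finite_etale_affine hB hC h₂
  exact ⟨IsZariskiLocalAtTarget.of_openCover S.affineCover fun i ↦ (key i).1,
    IsZariskiLocalAtTarget.of_openCover S.affineCover fun i ↦ (key i).2⟩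

end Groth.Agent.HomRep
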