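import Mathlib

/-!
# Weil restriction of algebras along finite projective algebras
-/

set_option autoImplicit false

universe u

open TensorProduct MvPolynomial

namespace Groth.Agent.HomRep

section

variable {R : Type u} [CommRing R] {A : Type u} [CommRing A] [Algebra R A]
  {n : ℕ} (e : Fin n → A) (s : Fin n → A →ₗ[R] R)

/-- a coordinate of `T ⊗ A` -/
noncomputable def coord (T : Type u) [CommRing T] [Algebra R T] (j : Fin n) :
    T ⊗[R] A →ₗ[R] T :=
  (TensorProduct.rid R T).toLinearMap ∘ₗ LinearMap.lTensor T (s j)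

@[simp]
lemma coord_tmul (T : Type u) [CommRing T] [Algebra R T] (j : Fin n) (t : T) (a : A) :
    coord s T j (t ⊗ₜ a) = s j a • t := by
  simp [coord]

lemma coord_map {T T' : Type u} [CommRing T] [Algebra R T] [CommRing T'] [Algebra R T']
    (f : T →ₐ[R] T') (j : Fin n) (x : T ⊗[R] A) :
    coord s T' j (Algebra.TensorProduct.map f (AlgHom.id R A) x) = f (coord s T j x) := by
  induction x with
  | zero => simp
  | tmul t a => simp
  | add x y hx hy => simp [hx, hy]

lemma sum_coord (hes : ∀ a, ∑ j, s j a • e j = a) {T : Type u} [CommRing T] [Algebra R T]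
    (x : T ⊗[R] A) : ∑ j, coord s T j x ⊗ₜ[R] e j = x := by
  induction x with
  | zero => simp
  | tmul t a =>
    simp only [coord_tmul, smul_tmul, ← tmul_sum, hes]
  | add x y hx hy => simp [add_tmul, Finset.sum_add_distrib, hx, hy]

variable {σ : Type u}

/-- the universal point over the polynomial algebra -/
noncomputable def gen (i : σ) : MvPolynomial (σ × Fin n) R ⊗[R] A :=
  ∑ j, X (i, j) ⊗ₜ[R] e j

/-- the equations of the Weil restriction -/
def eqns (S : Set (MvPolynomial σ R)) : Set (MvPolynomial (σ × Fin n) R) :=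
  (Set.range fun p : σ × Fin n ↦ X p - coord s _ p.2 (gen e p.1)) ∪
    ⋃ f ∈ S, Set.range fun j ↦ coord s _ j (aeval (gen e) f)

lemma eqns_finite [Finite σ] {S : Set (MvPolynomial σ R)} (hS : S.Finite) :
    (eqns e s S).Finite :=
  (Set.finite_range _).union (hS.biUnion fun _ _ ↦ Set.finite_range _)

/-- the algebra of the Weil restriction of `R[σ]/(S)` -/
abbrev WRes (S : Set (MvPolynomial σ R)) : Type u :=
  MvPolynomial (σ × Fin n) R ⧸ Ideal.span (eqns e s S)

/-- the universal family -/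
noncomputable def univGen (S : Set (MvPolynomial σ R)) (i : σ) : WRes e s S ⊗[R] A :=
  Algebra.TensorProduct.map (Ideal.Quotient.mkₐ R _) (AlgHom.id R A) (gen e i)

lemma aeval_univGen (S : Set (MvPolynomial σ R)) (f : MvPolynomial σ R) :
    aeval (univGen e s S) f =
      Algebra.TensorProduct.map (Ideal.Quotient.mkₐ R _) (AlgHom.id R A) (aeval (gen e) f) := by
  rw [show aeval (R := R) (univGen e s S) =
      (Algebra.TensorProduct.map (Ideal.Quotient.mkₐ R _) (AlgHom.id R A)).comp (aeval (gen e)) from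
    MvPolynomial.algHom_ext fun i ↦ by simp [univGen]]
  rfl

/-- the universal property -/
theorem wres_universal (hes : ∀ a, ∑ j, s j a • e j = a) (S : Set (MvPolynomial σ R)) :
    (∀ f ∈ S, aeval (univGen e s S) f = 0) ∧
      ∀ (T : Type u) [CommRing T] [Algebra R T] (t : σ → T ⊗[R] A), (∀ f ∈ S, aeval (R := R) t f = 0) →
        ∃! ψ : WRes e s S →ₐ[R] T,
          ∀ i, Algebra.TensorProduct.map ψ (AlgHom.id R A) (univGen e s S i) = t i := by
  refine ⟨fun f hf ↦ ?_, fun T _ _ t ht ↦ ?_⟩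
  · rw [← sum_coord e s hes (aeval _ f)]
    refine Finset.sum_eq_zero fun j _ ↦ ?_
    rw [aeval_univGen, coord_map]
    rw [show Ideal.Quotient.mkₐ R (Ideal.span (eqns e s S)) (coord s _ j (aeval (gen e) f)) = 0 from
      Ideal.Quotient.eq_zero_iff_mem.mpr (Ideal.subset_span (Or.inr
        (Set.mem_biUnion hf ⟨j, rfl⟩))), zero_tmul]
  · let ψ₀ : MvPolynomial (σ × Fin n) R →ₐ[R] T := aeval fun p ↦ coord s T p.2 (t p.1)
    have hgen : ∀ i, Algebra.TensorProduct.map ψ₀ (AlgHom.id R A) (gen e i) = t i := by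
      intro i
      simp only [gen, map_sum, Algebra.TensorProduct.map_tmul, AlgHom.id_apply, ψ₀, aeval_X]
      exact sum_coord e s hes (t i)
    have hgen' : ∀ f, Algebra.TensorProduct.map ψ₀ (AlgHom.id R A) (aeval (gen e) f) = aeval (R := R) t f := by
      intro f
      rw [show aeval (R := R) t =
          (Algebra.TensorProduct.map ψ₀ (AlgHom.id R A)).comp (aeval (gen e)) from
        MvPolynomial.algHom_ext fun i ↦ by simp [hgen]]
      rfl
    have hker : ∀ a ∈ Ideal.span (eqns e s S), ψ₀ a = 0 := by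
      change Ideal.span (eqns e s S) ≤ RingHom.ker ψ₀
      rw [Ideal.span_le]
      rintro _ (⟨p, rfl⟩ | hx)
      · change ψ₀ (_ - _) = 0
        rw [map_sub, ← coord_map, hgen, sub_eq_zero]
        simp [ψ₀]
      · simp only [Set.mem_iUnion, Set.mem_range] at hx
        obtain ⟨f, hf, j, rfl⟩ := hx
        change ψ₀ _ = 0
        rw [← coord_map, hgen', ht f hf, map_zero]
    refine ⟨Ideal.Quotient.liftₐ _ ψ₀ hker, fun i ↦ ?_, fun ψ hψ ↦ ?_⟩
    · rw [univGen, ← AlgHom.comp_apply, ← Algebra.TensorProduct.map_comp, AlgHom.comp_id,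
        Ideal.Quotient.liftₐ_comp, hgen]
    · refine Ideal.Quotient.algHom_ext _ (MvPolynomial.algHom_ext fun p ↦ ?_)
      rw [Ideal.Quotient.liftₐ_comp]
      have hmem : Ideal.Quotient.mkₐ R (Ideal.span (eqns e s S)) (X p) =
          Ideal.Quotient.mkₐ R _ (coord s _ p.2 (gen e p.1)) :=
        Ideal.Quotient.eq.mpr (Ideal.subset_span (Or.inl ⟨p, rfl⟩))
      rw [AlgHom.comp_apply, hmem, ← coord_map]
      change ψ (coord s (WRes e s S) p.2 (univGen e s S p.1)) = _
      rw [← coord_map, hψ]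
      simp [ψ₀]

lemma exists_lift_surjective {P B U : Type u} [CommRing P] [Algebra R P] [CommRing B] [Algebra R B]
    [CommRing U] [Algebra R U] (p : P →ₐ[R] B) (hp : Function.Surjective p) (α : P →ₐ[R] U)
    (h : ∀ x, p x = 0 → α x = 0) : ∃ F : B →ₐ[R] U, F.comp p = α :=
  ⟨AlgHom.liftOfSurjective p hp α h, AlgHom.ext fun x ↦ AlgHom.liftOfSurjective_apply p hp α h x⟩

lemma exists_of_presentation (hes : ∀ a, ∑ j, s j a • e j = a) {B : Type u} [CommRing B] [Algebra R B]
    (S : Set (MvPolynomial σ R)) (p : MvPolynomial σ R →ₐ[R] B) (hp : Function.Surjective p)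
    (hker : RingHom.ker p = Ideal.span S) :
    ∃ F : B →ₐ[R] WRes e s S ⊗[R] A,
      ∀ (T : Type u) [CommRing T] [Algebra R T] (φ : B →ₐ[R] T ⊗[R] A),
        ∃! ψ : WRes e s S →ₐ[R] T, (Algebra.TensorProduct.map ψ (AlgHom.id R A)).comp F = φ := by
  obtain ⟨hu, huniv⟩ := wres_universal e s hes S
  obtain ⟨F, hF⟩ := exists_lift_surjective p hp (aeval (R := R) (univGen e s S)) fun x hx ↦ by
    have hle : Ideal.span S ≤ RingHom.ker (aeval (R := R) (univGen e s S)) := Ideal.span_le.mpr hu
    exact hle (hker ▸ hx)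
  refine ⟨F, fun T _ _ φ ↦ ?_⟩
  have hi : ∀ i, F (p (X i)) = univGen e s S i := fun i ↦
    (AlgHom.congr_fun hF (X i)).trans (aeval_X _ i)
  obtain ⟨ψ, hψ, huψ⟩ := huniv T (fun i ↦ φ (p (X i))) fun f hf ↦ by
    rw [show aeval (R := R) (fun i ↦ φ (p (X i))) = φ.comp p from
      MvPolynomial.algHom_ext fun i ↦ by simp, AlgHom.comp_apply,
      show p f = 0 from hker.ge (Ideal.subset_span hf), map_zero]
  refine ⟨ψ, (AlgHom.cancel_right hp).mp (MvPolynomial.algHom_ext fun i ↦ ?_), fun ψ' h ↦ huψ ψ' fun i ↦ ?_⟩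
  · change Algebra.TensorProduct.map ψ (AlgHom.id R A) (F (p (X i))) = φ (p (X i))
    rw [hi, hψ]
  · rw [← hi]
    exact AlgHom.congr_fun h (p (X i))

end

variable (R A : Type u) [CommRing R] [CommRing A] [Algebra R A] [Module.Finite R A]
  [Module.Projective R A]

/-- Weil restriction of an algebra along a finite projective algebra -/
theorem exists_weilRestriction (B : Type u) [CommRing B] [Algebra R B] :
    ∃ (U : Type u) (_ : CommRing U) (_ : Algebra R U) (F : B →ₐ[R] U ⊗[R] A),
      (∀ (T : Type u) [CommRing T] [Algebra R T] (φ : B →ₐ[R] T ⊗[R] A),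
        ∃! ψ : U →ₐ[R] T, (Algebra.TensorProduct.map ψ (AlgHom.id R A)).comp F = φ) ∧
      (Algebra.FiniteType R B → Algebra.FiniteType R U) ∧
      (Algebra.FinitePresentation R B → Algebra.FinitePresentation R U) := by
  obtain ⟨n, e, s, hes⟩ : ∃ (n : ℕ) (e : Fin n → A) (s : Fin n → A →ₗ[R] R),
      ∀ a, ∑ j, s j a • e j = a := by
    obtain ⟨n, π, hπ⟩ := Module.Finite.exists_fin' R A
    obtain ⟨l, hl⟩ := Module.projective_lifting_property π LinearMap.id hπ
    let e : Fin n → A := fun j ↦ π (Pi.single j 1)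
    let s : Fin n → A →ₗ[R] R := fun j ↦ LinearMap.proj j ∘ₗ l
    refine ⟨n, e, s, ?_⟩
    intro a
    conv_rhs => rw [← show π (l a) = a from LinearMap.congr_fun hl a]
    rw [LinearMap.pi_apply_eq_sum_univ π (l a)]
    refine Finset.sum_congr rfl fun j _ ↦ ?_
    simp only [s, e, LinearMap.comp_apply, LinearMap.proj_apply]
    congr 2
    ext k
    simp [Pi.single_apply, eq_comm]
  have main := fun (σ : Type u) (S : Set (MvPolynomial σ R)) (p : MvPolynomial σ R →ₐ[R] B) ↦
    exists_of_presentation e s hes S p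
  by_cases hfp : Algebra.FinitePresentation R B
  · obtain ⟨m, p, hp, hkfg⟩ := hfp.out
    let q : MvPolynomial (ULift.{u} (Fin m)) R →ₐ[R] B :=
      p.comp (MvPolynomial.renameEquiv R Equiv.ulift).toAlgHom
    have hq : Function.Surjective q := hp.comp (MvPolynomial.renameEquiv R Equiv.ulift).surjective
    have hqfg : (RingHom.ker q).FG :=
      Algebra.FinitePresentation.ker_fG_of_surjective q hq
    obtain ⟨S, hS⟩ := hqfg
    obtain ⟨F, hF⟩ := main _ (↑S) q hq hS.symm
    have hU : Algebra.FinitePresentation R (WRes e s (↑S : Set (MvPolynomial (ULift.{u} (Fin m)) R))) :=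
      Algebra.FinitePresentation.quotient ⟨(eqns_finite e s S.finite_toSet).toFinset, by simp⟩
    exact ⟨_, inferInstance, inferInstance, F, hF, fun _ ↦ inferInstance, fun _ ↦ hU⟩
  by_cases hft : Algebra.FiniteType R B
  · obtain ⟨σ, hσ, q, hq⟩ : ∃ (σ : Type u) (_ : Finite σ) (q : MvPolynomial σ R →ₐ[R] B),
        Function.Surjective q := by
      obtain ⟨m, p, hp⟩ := Algebra.FiniteType.iff_quotient_mvPolynomial''.mp hft
      exact ⟨ULift.{u} (Fin m), inferInstance,
        p.comp (MvPolynomial.renameEquiv R Equiv.ulift).toAlgHom,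
        hp.comp (MvPolynomial.renameEquiv R Equiv.ulift).surjective⟩
    obtain ⟨F, hF⟩ := main σ (RingHom.ker q) q hq (Ideal.span_eq _).symm
    exact ⟨_, inferInstance, inferInstance, F, hF,
      fun _ ↦ inferInstance, fun h ↦ absurd h hfp⟩
  · obtain ⟨F, hF⟩ := main B (RingHom.ker (aeval (R := R) (id : B → B)))
      (aeval (id : B → B)) (fun b ↦ ⟨X b, by simp⟩) (Ideal.span_eq _).symm
    exact ⟨_, inferInstance, inferInstance, F, hF, fun h ↦ absurd h hft, fun h ↦ absurd h hfp⟩

end Groth.Agent.HomRep
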