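import Groth.Agent.ExtShX.RelTensor
import Groth.Agent.RefStalk.Generic
import Groth.Agent.Nakai.AlgEquiv
import Groth.Agent.W7Cech.GlobSec
import Groth.Agent.W7Cech.TensorSec
import Groth.Agent.S2297

/-!
`M ↦ Hom(G, F ⊗_A M)` is corepresentable for a module `G` with a finite locally free presentation and a
coherent `F`, flat over the base of a proper morphism.
-/

set_option autoImplicit false
set_option linter.style.haveILetI false
set_option linter.unusedSectionVars false
set_option backward.isDefEq.respectTransparency false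
set_option backward.isDefEq.respectTransparency.types false

universe u

open CategoryTheory CategoryTheory.Limits AlgebraicGeometry TopologicalSpace Opposite
open Groth.Agent.WeakAssLib (mgerm)

noncomputable section

namespace Groth.Agent.HomRep

variable {X : Scheme.{u}}

/-- Morphisms are the global sections of the sheaf Hom. -/
def homΓ (E N : X.Modules) : (E ⟶ N) ≃+ Γ(RefHull.homSh E N, (⊤ : X.Opens)) :=
  AddEquiv.ofBijective
    (AddMonoidHom.mk' (fun φ => RefHull.ofHom φ ⊤) fun φ ψ => Subtype.ext <| funext fun x => by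
      refine LinearMap.ext fun v => ?_
      obtain ⟨U, hx, s, rfl⟩ := TopCat.Presheaf.exists_germ_eq E.presheaf v
      show RefHull.stalkMapₗ (φ + ψ) x.1 (E.presheaf.germ U x.1 hx s) =
        RefHull.stalkMapₗ φ x.1 (E.presheaf.germ U x.1 hx s) + RefHull.stalkMapₗ ψ x.1 (E.presheaf.germ U x.1 hx s)
      rw [RefHull.stalkMapₗ_germ, RefHull.stalkMapₗ_germ, RefHull.stalkMapₗ_germ]
      exact map_add (N.presheaf.germ U x.1 hx).hom (φ.app U s) (ψ.app U s))
    ⟨fun φ ψ h => by
      apply Scheme.Modules.hom_ext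
      intro U
      ext s
      refine RefStalk.germ_ext fun y hy => ?_
      have h' := LinearMap.congr_fun (congrFun (congrArg Subtype.val h) ⟨y, trivial⟩) (E.presheaf.germ U y hy s)
      exact (RefHull.stalkMapₗ_germ φ y hy s).symm.trans (h'.trans (RefHull.stalkMapₗ_germ ψ y hy s)),
    fun g => by
      obtain ⟨ψ, hψ⟩ := RefStalk.exists_hom g
      exact ⟨ψ, Subtype.ext (funext fun x => hψ x.1)⟩⟩

lemma homΓ_natural (E : X.Modules) {N N' : X.Modules} (g : N ⟶ N') (φ : E ⟶ N) :
    homΓ E N' (φ ≫ g) = ((RefFun.homFunctor E).map g).app ⊤ (homΓ E N φ) :=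
  Subtype.ext <| funext fun x => by
    refine LinearMap.ext fun v => ?_
    obtain ⟨U, hx, s, rfl⟩ := TopCat.Presheaf.exists_germ_eq E.presheaf v
    show RefHull.stalkMapₗ (φ ≫ g) x.1 (E.presheaf.germ U x.1 hx s) =
      RefHull.stalkMapₗ g x.1 (RefHull.stalkMapₗ φ x.1 (E.presheaf.germ U x.1 hx s))
    rw [RefHull.stalkMapₗ_germ, RefHull.stalkMapₗ_germ, RefHull.stalkMapₗ_germ]
    rfl

set_option maxHeartbeats 1000000 in
/-- The same, in `N`. -/
def swapNat (D F : X.Modules) :
    DCoh.tensorRightMod F ⋙ S0927.tens D ≅ DCoh.tensorRightMod (CohB1.tensorMod D F) :=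
  let σ : ∀ N : X.Modules, (DCoh.tensorRightMod F ⋙ S0927.tens D).obj N ≅
      (DCoh.tensorRightMod (CohB1.tensorMod D F)).obj N := fun N =>
    (TMul.assocIso D N F).symm ≪≫
      (DCoh.tensorRightMod F).mapIso (TMul.commIso D N) ≪≫ TMul.assocIso N D F
  NatIso.ofComponents σ fun {N N'} g => by
    refine (cancel_epi (TMul.assocIso D N F).hom).mp (TMul.hom_ext₃ fun U d n s => ?_)
    show (TMul.assocHom N' D F).app U (((DCoh.tensorRightMod F).map (TMul.commHom D N')).app U
        ((TMul.assocInv D N' F).app U ((S0927.tmap D ((DCoh.tensorRightMod F).map g)).app U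
          ((TMul.assocHom D N F).app U (TMul.tm (TMul.tm d n) s))))) =
      ((DCoh.tensorRightMod (CohB1.tensorMod D F)).map g).app U
        ((TMul.assocHom N D F).app U (((DCoh.tensorRightMod F).map (TMul.commHom D N)).app U
          ((TMul.assocInv D N F).app U ((TMul.assocHom D N F).app U (TMul.tm (TMul.tm d n) s)))))
    rw [TMul.assocHom_tm, S0927.tmap_tm, W7Cech.map_tm, TMul.assocInv_tm, TMul.assocInv_tm, W7Cech.map_tm,
      TMul.commHom_tm, TMul.assocHom_tm, W7Cech.map_tm, TMul.commHom_tm, TMul.assocHom_tm, W7Cech.map_tm]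

variable (A : Type u) [CommRing A] [IsNoetherianRing A] [X.Over (Spec (CommRingCat.of A))]
  [IsProper (X ↘ Spec (CommRingCat.of A))]

/-- Hom out of a finite locally free module is corepresentable. -/
theorem exists_corep_locFree (F : X.Modules) (hF : Coh.IsCoh F)
    (hfl : FlatMod.IsFlatOver (X ↘ Spec (CommRingCat.of A)) F) (E : X.Modules) (hE : FlatMod.IsFinLocFree E) :
    ∃ Q : ModuleCat.{u} A, Module.Finite A Q ∧ Nonempty (CohIII.tensorAFunctor A F ⋙ preadditiveCoyoneda.obj (op E) ≅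
      preadditiveCoyoneda.obj (op Q)) := by
  haveI : IsLocallyNoetherian X := LocallyOfFiniteType.isLocallyNoetherian (X ↘ Spec (CommRingCat.of A))
  let D := RefHull.dual E
  have hD : FlatMod.IsFinLocFree D := ResDesc.isFinLocFree_dual hE
  have hDc : Coh.IsCoh D :=
    ⟨LocFree.isQCoh_of_isFinLocFree hD, ModDesc.isFT_of_isFP (LocFree.isFP_of_isFinLocFree hD)⟩
  let G := CohB1.tensorMod D F
  have hG : Coh.IsCoh G := by
    haveI : Coh.IsQCoh D := hDc.1
    haveI : Coh.IsQCoh F := hF.1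
    exact ⟨(S2297.result D F).1, (S2297.result D F).2 hDc.2 hF.2⟩
  have hGf : FlatMod.IsFlatOver (X ↘ Spec (CommRingCat.of A)) G := fun x => by
    haveI := LocFree.free_stalk_of_isFinLocFree hD x
    exact Nakai.flatOver_tensor _ (show Module.Flat (X.presheaf.stalk x) (D.presheaf.stalk x) from inferInstance) (hfl x)
  obtain ⟨L, hL, ⟨e⟩, hm⟩ := W7Cech.exists_globalSections_model A G hG hGf
  obtain ⟨Q, hQ, ⟨q⟩⟩ := (W7Cech.preservesMono_iff_corep L
    (fun i => ⟨(hL i).1, haveI := (hL i).2; inferInstance⟩) 0).1 hm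
  refine ⟨Q, hQ, ⟨?_⟩⟩
  let gA : X.Modules ⥤ AddCommGrpCat.{u} :=
    CohIII.globalSectionsA A ⋙ forget₂ (ModuleCat.{u} A) AddCommGrpCat.{u}
  let a : RefFun.homFunctor E ⋙ gA ≅ preadditiveCoyoneda.obj (op E) :=
    NatIso.ofComponents (fun N => AddEquiv.toAddCommGrpIso
      (show (RefFun.homFunctor E ⋙ gA).obj N ≃+ ((preadditiveCoyoneda.obj (op E)).obj N) from (homΓ E N).symm))
      fun {N N'} g => AddCommGrpCat.ext fun s => (homΓ E N').injective <| by
        refine ((homΓ E N').apply_symm_apply _).trans (Eq.trans ?_ (homΓ_natural E g ((homΓ E N).symm s)).symm)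
        exact congrArg (((RefFun.homFunctor E).map g).app ⊤) ((homΓ E N).apply_symm_apply s).symm
  let b : DCoh.tensorRightMod F ⋙ RefFun.homFunctor E ≅ DCoh.tensorRightMod G :=
    Functor.isoWhiskerLeft (DCoh.tensorRightMod F)
      ((W7Hull.sheafHomIso E).symm ≪≫ (ExtShX.dualHomNat hE).symm) ≪≫ swapNat D F
  let T := tilde.functor (CommRingCat.of A) ⋙ Scheme.Modules.pullback (X ↘ Spec (CommRingCat.of A))
  exact Functor.isoWhiskerLeft (CohIII.tensorAFunctor A F) a.symm ≪≫
    Functor.isoWhiskerRight (Functor.isoWhiskerLeft T b) gA ≪≫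
    Functor.isoWhiskerRight (e ≪≫ q) (forget₂ (ModuleCat.{u} A) AddCommGrpCat.{u})

/-- Hom out of a module with a finite locally free presentation is corepresentable. -/
theorem exists_corep (F : X.Modules) (hF : Coh.IsCoh F)
    (hfl : FlatMod.IsFlatOver (X ↘ Spec (CommRingCat.of A)) F) {G E₀ E₁ : X.Modules}
    (h₀ : FlatMod.IsFinLocFree E₀) (h₁ : FlatMod.IsFinLocFree E₁) (v : E₁ ⟶ E₀) (π : E₀ ⟶ G) [Epi π]
    (w : v ≫ π = 0) (hex : (ShortComplex.mk v π w).Exact) :
    ∃ N : ModuleCat.{u} A, Module.Finite A N ∧ Nonempty (CohIII.tensorAFunctor A F ⋙ preadditiveCoyoneda.obj (op G) ≅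
      preadditiveCoyoneda.obj (op N)) := by
  obtain ⟨Q₀, hQ₀, ⟨e₀⟩⟩ := exists_corep_locFree A F hF hfl E₀ h₀
  obtain ⟨Q₁, hQ₁, ⟨e₁⟩⟩ := exists_corep_locFree A F hF hfl E₁ h₁
  let T := CohIII.tensorAFunctor A F
  let τ : preadditiveCoyoneda.obj (op Q₀) ⟶ preadditiveCoyoneda.obj (op Q₁) :=
    e₀.inv ≫ Functor.whiskerLeft T (preadditiveCoyoneda.map v.op) ≫ e₁.hom
  let s : Q₁ ⟶ Q₀ := (τ.app Q₀).hom (𝟙 Q₀)
  have hτ : ∀ (M : ModuleCat.{u} A) (φ : Q₀ ⟶ M), (τ.app M).hom φ = s ≫ φ := fun M φ => by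
    refine Eq.trans ?_ (ConcreteCategory.congr_hom (τ.naturality φ) (𝟙 Q₀))
    change (τ.app M).hom φ = (τ.app M).hom (𝟙 Q₀ ≫ φ)
    rw [Category.id_comp]
  let N : ModuleCat.{u} A := cokernel s
  haveI : Module.Finite A Q₀ := hQ₀
  have hN : Module.Finite A N := Module.Finite.of_surjective (cokernel.π s).hom
    ((ModuleCat.epi_iff_surjective _).1 inferInstance)
  let ψ : ∀ M : ModuleCat.{u} A, (N ⟶ M) →+ (G ⟶ T.obj M) := fun M =>
    AddMonoidHom.mk' (fun y => hex.desc (show E₀ ⟶ T.obj M from (e₀.inv.app M).hom (cokernel.π s ≫ y)) (by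
      have h := hτ M (cokernel.π s ≫ y)
      rw [cokernel.condition_assoc, zero_comp] at h
      exact (e₁.app M).addCommGroupIsoToAddEquiv.injective (h.trans (map_zero _).symm)))
      fun y y' => (cancel_epi π).1 (by
        refine (hex.g_desc _ _).trans (Eq.trans ?_ (Preadditive.comp_add _ _ _ π _ _).symm)
        refine Eq.trans ?_ (congrArg₂ (· + ·) (hex.g_desc _ _) (hex.g_desc _ _)).symm
        refine (congrArg (e₀.inv.app M).hom (Preadditive.comp_add _ _ _ (cokernel.π s) y y')).trans ?_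
        exact map_add (e₀.inv.app M).hom _ _)
  have hψ : ∀ M, Function.Bijective (ψ M) := fun M => by
    refine ⟨fun y y' h => (cancel_epi (cokernel.π s)).1
      ((e₀.app M).symm.addCommGroupIsoToAddEquiv.injective ?_), fun z => ?_⟩
    · exact (hex.g_desc _ _).symm.trans ((congrArg (π ≫ ·) h).trans (hex.g_desc _ _))
    · let w' : E₀ ⟶ T.obj M := π ≫ z
      let φ : Q₀ ⟶ M := (e₀.hom.app M).hom w' 
      have hφ : (e₀.inv.app M).hom φ = π ≫ z :=
        ConcreteCategory.congr_hom (e₀.hom_inv_id_app M) w'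
      have hs : s ≫ φ = 0 := by
        rw [← hτ]
        change (e₁.hom.app M).hom (v ≫ (e₀.inv.app M).hom φ) = 0
        rw [hφ, ← Category.assoc, w, zero_comp]
        exact map_zero _
      refine ⟨cokernel.desc s φ hs, (cancel_epi π).1 ((hex.g_desc _ _).trans ?_)⟩
      rw [cokernel.π_desc]
      exact hφ
  refine ⟨N, hN, ⟨(NatIso.ofComponents (fun M => (AddEquiv.ofBijective (ψ M) (hψ M)).toAddCommGrpIso)
    fun {M M'} g => AddCommGrpCat.ext fun y => (cancel_epi π).1 ?_).symm⟩⟩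
  change π ≫ hex.desc _ _ = π ≫ (hex.desc _ _ ≫ T.map g)
  refine (hex.g_desc _ _).trans (Eq.trans ?_ ((Category.assoc _ _ _).symm.trans
    (congrArg (· ≫ T.map g) (hex.g_desc _ _))).symm)
  refine Eq.trans ?_ (ConcreteCategory.congr_hom (e₀.inv.naturality g) (show Q₀ ⟶ M from cokernel.π s ≫ y))
  exact congrArg (e₀.inv.app M').hom (Category.assoc _ _ _).symm

end Groth.Agent.HomRep
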