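import Groth.Agent.HomRep.HomGlue
import Groth.Agent.HomRep.WeilRing

/-!
# `Hom(X, Y)` over an affine open of the base
-/

set_option autoImplicit false
set_option backward.isDefEq.respectTransparency false

universe u

open CategoryTheory CategoryTheory.Limits AlgebraicGeometry TopologicalSpace Opposite
  MonoidalCategory CartesianMonoidalCategory
open scoped TensorProduct

namespace Groth.Agent.HomRep

open Scheme (AffineZariskiSite)

lemma isPullback_comp_mono {C : Type*} [Category C] {P A B Y Z : C} {p : P ⟶ A} {q : P ⟶ B}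
    {f : A ⟶ Y} {g : B ⟶ Y} (h : IsPullback p q f g) (j : Y ⟶ Z) [Mono j] :
    IsPullback p q (f ≫ j) (g ≫ j) :=
  ⟨⟨by rw [reassoc_of% h.w]⟩, ⟨PullbackCone.IsLimit.mk _
    (fun c ↦ h.lift c.fst c.snd ((cancel_mono j).mp (by simpa using c.condition)))
    (fun _ ↦ h.lift_fst _ _ _) (fun _ ↦ h.lift_snd _ _ _)
    (fun c m h1 h2 ↦ h.hom_ext (h1.trans (h.lift_fst _ _ _).symm) (h2.trans (h.lift_snd _ _ _).symm))⟩⟩

variable {S : Scheme.{u}} {U : S.Opens} (hU : IsAffineOpen U)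

/-- the spectrum of an algebra over an affine open -/
noncomputable abbrev SA (C : Type u) [CommRing C] [Algebra Γ(S, U) C] : Over S :=
  Over.mk (Spec.map (CommRingCat.ofHom (algebraMap Γ(S, U) C)) ≫ hU.fromSpec)

/-- functoriality -/
noncomputable def saMap {C D : Type u} [CommRing C] [Algebra Γ(S, U) C] [CommRing D]
    [Algebra Γ(S, U) D] (f : C →ₐ[Γ(S, U)] D) : SA hU D ⟶ SA hU C :=
  Over.homMk (Spec.map (CommRingCat.ofHom f.toRingHom)) (by
    change Spec.map (CommRingCat.ofHom f.toRingHom) ≫ Spec.map _ ≫ hU.fromSpec = _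
    rw [← Spec.map_comp_assoc, ← CommRingCat.ofHom_comp,
      show f.toRingHom.comp (algebraMap Γ(S, U) C) = algebraMap Γ(S, U) D from f.comp_algebraMap]
    rfl)

@[simp]
lemma saMap_left {C D : Type u} [CommRing C] [Algebra Γ(S, U) C] [CommRing D]
    [Algebra Γ(S, U) D] (f : C →ₐ[Γ(S, U)] D) :
    (saMap hU f).left = Spec.map (CommRingCat.ofHom f.toRingHom) := rfl

lemma saMap_comp {C D E : Type u} [CommRing C] [Algebra Γ(S, U) C] [CommRing D]
    [Algebra Γ(S, U) D] [CommRing E] [Algebra Γ(S, U) E] (f : C →ₐ[Γ(S, U)] D)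
    (g : D →ₐ[Γ(S, U)] E) : saMap hU (g.comp f) = saMap hU g ≫ saMap hU f := by
  apply Over.OverMorphism.ext
  rw [Over.comp_left, saMap_left, saMap_left, saMap_left, ← Spec.map_comp]
  rfl

lemma saMap_bijective (C D : Type u) [CommRing C] [Algebra Γ(S, U) C] [CommRing D]
    [Algebra Γ(S, U) D] : Function.Bijective (saMap hU : (C →ₐ[Γ(S, U)] D) → _) := by
  refine ⟨fun f g h ↦ ?_, fun v ↦ ?_⟩
  · have h1 := CommRingCat.hom_ext_iff.mp (Spec.map_injective (congrArg CommaMorphism.left h))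
    exact AlgHom.ext fun x ↦ RingHom.congr_fun h1 x
  · obtain ⟨φ, hφ⟩ : ∃ φ, Spec.map φ = v.left := ⟨_, Spec.map_preimage v.left⟩
    have h : CommRingCat.ofHom (algebraMap Γ(S, U) C) ≫ φ =
        CommRingCat.ofHom (algebraMap Γ(S, U) D) := by
      apply Spec.map_injective
      rw [Spec.map_comp, hφ, ← cancel_mono hU.fromSpec, Category.assoc]
      exact Over.w v
    refine ⟨{ φ.hom with commutes' := fun r ↦ RingHom.congr_fun (congrArg CommRingCat.Hom.hom h) r }, ?_⟩
    exact Over.OverMorphism.ext hφ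

lemma preimage_SA (C : Type u) [CommRing C] [Algebra Γ(S, U) C] :
    (SA hU C).hom ⁻¹ᵁ U = ⊤ := by
  change (_ ≫ hU.fromSpec) ⁻¹ᵁ U = ⊤
  rw [Scheme.Hom.comp_preimage, hU.fromSpec_preimage_self, Scheme.Hom.preimage_top]

/-- affine schemes over `U` are spectra -/
lemma exists_iso_SA {T : Over S} [IsAffine T.left] (hT : T.hom ⁻¹ᵁ U = ⊤) :
    ∃ (C : Type u) (_ : CommRing C) (_ : Algebra Γ(S, U) C), Nonempty (SA hU C ≅ T) := by
  letI : Algebra Γ(S, U) Γ(T.left, ⊤) := (T.hom.appLE U ⊤ hT.ge).hom.toAlgebra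
  refine ⟨Γ(T.left, ⊤), inferInstance, inferInstance, ⟨Over.isoMk T.left.isoSpec.symm ?_⟩⟩
  change T.left.isoSpec.inv ≫ T.hom = Spec.map (T.hom.appLE U ⊤ hT.ge) ≫ hU.fromSpec
  rw [hU.SpecMap_appLE_fromSpec T.hom (isAffineOpen_top T.left) hT.ge, IsAffineOpen.fromSpec_top]

/-- the product of spectra -/
noncomputable def θ (A C : Type u) [CommRing A] [Algebra Γ(S, U) A] [CommRing C]
    [Algebra Γ(S, U) C] : SA hU (C ⊗[Γ(S, U)] A) ⟶ SA hU A ⊗ SA hU C :=
  lift (saMap hU Algebra.TensorProduct.includeRight) (saMap hU Algebra.TensorProduct.includeLeft)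

instance (A C : Type u) [CommRing A] [Algebra Γ(S, U) A] [CommRing C] [Algebra Γ(S, U) C] :
    IsIso (θ hU A C) := by
  haveI : Mono hU.fromSpec := inferInstance
  have h : IsPullback (saMap hU (Algebra.TensorProduct.includeRight (R := Γ(S, U)) (A := C) (B := A))).left
      (saMap hU (Algebra.TensorProduct.includeLeft (R := Γ(S, U)) (S := Γ(S, U)) (A := C) (B := A))).left
      (SA hU A).hom (SA hU C).hom :=
    isPullback_comp_mono (isPullback_SpecMap_of_isPushout _ _ _ _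
      (CommRingCat.isPushout_tensorProduct Γ(S, U) C A).flip) hU.fromSpec
  have h2 : (θ hU A C).left = h.isoPullback.hom := by
    apply pullback.hom_ext
    · rw [h.isoPullback_hom_fst]
      exact congrArg CommaMorphism.left (lift_fst (saMap hU _) (saMap hU _))
    · rw [h.isoPullback_hom_snd]
      exact congrArg CommaMorphism.left (lift_snd (saMap hU _) (saMap hU _))
  have : IsIso ((Over.forget S).map (θ hU A C)) := by
    change IsIso (θ hU A C).left
    rw [h2]
    infer_instance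
  exact isIso_of_reflects_iso _ (Over.forget S)

lemma θ_naturality (A : Type u) [CommRing A] [Algebra Γ(S, U) A] {C D : Type u} [CommRing C]
    [Algebra Γ(S, U) C] [CommRing D] [Algebra Γ(S, U) D] (ψ : C →ₐ[Γ(S, U)] D) :
    θ hU A D ≫ (SA hU A ◁ saMap hU ψ) =
      saMap hU (Algebra.TensorProduct.map ψ (AlgHom.id _ A)) ≫ θ hU A C := by
  apply CartesianMonoidalCategory.hom_ext
  · rw [Category.assoc, whiskerLeft_fst, θ, θ, lift_fst, Category.assoc, lift_fst, ← saMap_comp,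
      Algebra.TensorProduct.map_comp_includeRight]
    rfl
  · rw [Category.assoc, whiskerLeft_snd, θ, θ, Category.assoc, lift_snd, lift_snd_assoc,
      ← saMap_comp, ← saMap_comp, Algebra.TensorProduct.map_comp_includeLeft]

/-- morphisms from products with affine schemes over `U` -/
theorem exists_hom_affine (A B : Type u) [CommRing A] [Algebra Γ(S, U) A] [CommRing B]
    [Algebra Γ(S, U) B] [Module.Finite Γ(S, U) A] [Module.Projective Γ(S, U) A] :
    ∃ (W : Type u) (_ : CommRing W) (_ : Algebra Γ(S, U) W) (ev : SA hU A ⊗ SA hU W ⟶ SA hU B),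
      (∀ (T : Over S) [IsAffine T.left], T.hom ⁻¹ᵁ U = ⊤ → ∀ (φ : SA hU A ⊗ T ⟶ SA hU B),
        ∃! v : T ⟶ SA hU W, (SA hU A ◁ v) ≫ ev = φ) ∧
      (Algebra.FiniteType Γ(S, U) B → Algebra.FiniteType Γ(S, U) W) ∧
      (Algebra.FinitePresentation Γ(S, U) B → Algebra.FinitePresentation Γ(S, U) W) := by
  obtain ⟨W, _, _, F, hF, hft, hfp⟩ := exists_weilRestriction Γ(S, U) A B
  refine ⟨W, inferInstance, inferInstance, inv (θ hU A W) ≫ saMap hU F, fun T _ hT φ ↦ ?_, hft, hfp⟩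
  obtain ⟨C, _, _, ⟨e⟩⟩ := exists_iso_SA hU hT
  obtain ⟨φ', hφ'⟩ := (saMap_bijective hU B (C ⊗[Γ(S, U)] A)).2 (θ hU A C ≫ (SA hU A ◁ e.hom) ≫ φ)
  obtain ⟨ψ, hψ, huψ⟩ := hF C φ'
  have key : ∀ ψ' : W →ₐ[Γ(S, U)] C,
      (SA hU A ◁ (e.inv ≫ saMap hU ψ')) ≫ inv (θ hU A W) ≫ saMap hU F = φ ↔
        (Algebra.TensorProduct.map ψ' (AlgHom.id _ A)).comp F = φ' := by
    intro ψ'
    rw [← cancel_epi (SA hU A ◁ e.hom), ← whiskerLeft_comp_assoc, Iso.hom_inv_id_assoc,
      ← cancel_epi (θ hU A C), reassoc_of% (θ_naturality hU A ψ'), IsIso.hom_inv_id_assoc,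
      ← saMap_comp, ← hφ', (saMap_bijective hU _ _).1.eq_iff]
  refine ⟨e.inv ≫ saMap hU ψ, (key ψ).mpr hψ, fun v hv ↦ ?_⟩
  obtain ⟨ψ', hψ'⟩ := (saMap_bijective hU W C).2 (e.hom ≫ v)
  have hv' : v = e.inv ≫ saMap hU ψ' := by rw [hψ', Iso.inv_hom_id_assoc]
  subst hv'
  rw [huψ ψ' ((key ψ').mp hv)]

variable (X Y : Over S)

/-- the universal property extends from affine families to all families -/
theorem exists_hom_of_affine {M : Over S} (ev : X ⊗ M ⟶ Y)
    (h : ∀ (T : Over S) [IsAffine T.left], T.hom ⁻¹ᵁ U = ⊤ → ∀ (φ : X ⊗ T ⟶ Y),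
      ∃! v : T ⟶ M, (X ◁ v) ≫ ev = φ)
    (T : Over S) (hT : T.hom ⁻¹ᵁ U = ⊤) (φ : X ⊗ T ⟶ Y) :
    ∃! v : T ⟶ M, (X ◁ v) ≫ ev = φ := by
  let 𝒰 : T.left.OpenCover := AffineZariskiSite.directedCover T.left
  letI : Category 𝒰.I₀ := inferInstanceAs (Category (AffineZariskiSite.directedCover T.left).I₀)
  letI : Scheme.Cover.LocallyDirected 𝒰 :=
    inferInstanceAs (Scheme.Cover.LocallyDirected (AffineZariskiSite.directedCover T.left))
  haveI : ∀ i, IsAffine (piece 𝒰 i).left := fun i ↦ i.2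
  have htop : ∀ i, (piece 𝒰 i).hom ⁻¹ᵁ U = ⊤ := fun i ↦ preimage_eq_top_of_hom (pieceMap 𝒰 i) hT
  choose v hv huv using fun i ↦ h (piece 𝒰 i) (htop i) ((X ◁ pieceMap 𝒰 i) ≫ φ)
  have hcomp : ∀ {i j : 𝒰.I₀} (k : i ⟶ j), pieceTrans 𝒰 k ≫ v j = v i := by
    intro i j k
    refine huv i _ ?_
    dsimp only
    rw [whiskerLeft_comp_assoc, hv j, ← whiskerLeft_comp_assoc, pieceTrans_pieceMap]
  let w : T ⟶ M := Scheme.OpenCover.glueMorphismsOverOfLocallyDirected (X := T) 𝒰
    (fun i ↦ (v i).left) (fun k ↦ congrArg CommaMorphism.left (hcomp k)) (fun i ↦ Over.w (v i))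
  have hw : ∀ i, pieceMap 𝒰 i ≫ w = v i := fun i ↦ Over.OverMorphism.ext
    (Scheme.OpenCover.map_glueMorphismsOverOfLocallyDirected_left (X := T) 𝒰
      (fun i ↦ (v i).left) (fun k ↦ congrArg CommaMorphism.left (hcomp k)) (fun i ↦ Over.w (v i)) i)
  refine ⟨w, ?_, fun w' hw' ↦ ?_⟩
  · obtain ⟨z, -, huz⟩ := existsUnique_hom_glue X Y 𝒰 (fun i ↦ (X ◁ pieceMap 𝒰 i) ≫ φ) fun {i j} k ↦ by
      rw [← whiskerLeft_comp_assoc, pieceTrans_pieceMap]
    refine (huz _ fun i ↦ ?_).trans (huz φ fun i ↦ rfl).symm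
    rw [← whiskerLeft_comp_assoc, hw i]
    exact hv i
  · apply Over.OverMorphism.ext
    refine 𝒰.hom_ext _ _ fun i ↦ ?_
    change (pieceMap 𝒰 i ≫ w').left = (pieceMap 𝒰 i ≫ w).left
    rw [hw i]
    refine congrArg CommaMorphism.left (huv i _ ?_)
    dsimp only
    rw [whiskerLeft_comp_assoc, hw']

include hU in
/-- representability of `Hom(X, Y)` over an affine open -/
theorem exists_rep [IsFinite X.hom] [Flat X.hom] [LocallyOfFinitePresentation X.hom]
    [IsAffineHom Y.hom] :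
    ∃ R : Rep (homFunctor X Y) U,
      (LocallyOfFiniteType Y.hom → LocallyOfFiniteType R.A.hom) ∧
      (LocallyOfFinitePresentation Y.hom → LocallyOfFinitePresentation R.A.hom) := by
  letI : Algebra Γ(S, U) Γ(X.left, X.hom ⁻¹ᵁ U) := (X.hom.app U).hom.toAlgebra
  letI : Algebra Γ(S, U) Γ(Y.left, Y.hom ⁻¹ᵁ U) := (Y.hom.app U).hom.toAlgebra
  have hX := hU.preimage X.hom
  have hY := hU.preimage Y.hom
  haveI : Module.Finite Γ(S, U) Γ(X.left, X.hom ⁻¹ᵁ U) := IsFinite.finite_app X.hom U hU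
  haveI : Module.Flat Γ(S, U) Γ(X.left, X.hom ⁻¹ᵁ U) := by
    have := Flat.flat_appLE X.hom hU hX le_rfl
    rwa [← Scheme.Hom.app_eq_appLE] at this
  haveI : Algebra.FinitePresentation Γ(S, U) Γ(X.left, X.hom ⁻¹ᵁ U) := by
    have := LocallyOfFinitePresentation.finitePresentation_appLE (f := X.hom) hU hX le_rfl
    rwa [← Scheme.Hom.app_eq_appLE] at this
  haveI : Module.FinitePresentation Γ(S, U) Γ(X.left, X.hom ⁻¹ᵁ U) :=
    Module.FinitePresentation.of_finite_of_finitePresentation _ _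
  haveI : Module.Projective Γ(S, U) Γ(X.left, X.hom ⁻¹ᵁ U) := Module.Flat.projective_of_finitePresentation
  obtain ⟨W, _, _, ev, hev, hft, hfp⟩ :=
    exists_hom_affine hU Γ(X.left, X.hom ⁻¹ᵁ U) Γ(Y.left, Y.hom ⁻¹ᵁ U)
  let jX : SA hU Γ(X.left, X.hom ⁻¹ᵁ U) ⟶ X := Over.homMk hX.fromSpec (by
    change _ = Spec.map (X.hom.app U) ≫ hU.fromSpec
    rw [Scheme.Hom.app_eq_appLE, hU.SpecMap_appLE_fromSpec X.hom hX le_rfl])
  let jY : SA hU Γ(Y.left, Y.hom ⁻¹ᵁ U) ⟶ Y := Over.homMk hY.fromSpec (by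
    change _ = Spec.map (Y.hom.app U) ≫ hU.fromSpec
    rw [Scheme.Hom.app_eq_appLE, hU.SpecMap_appLE_fromSpec Y.hom hY le_rfl])
  haveI : IsOpenImmersion jX.left := inferInstanceAs (IsOpenImmersion hX.fromSpec)
  haveI : IsOpenImmersion jY.left := inferInstanceAs (IsOpenImmersion hY.fromSpec)
  have rangeX : Set.range jX.left = Set.range (incl X U).left := by
    change Set.range hX.fromSpec = Set.range (X.hom ⁻¹ᵁ U).ι
    rw [hX.range_fromSpec, Scheme.Opens.range_ι]
  have rangeY : Set.range jY.left = Set.range (incl Y U).left := by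
    change Set.range hY.fromSpec = Set.range (Y.hom ⁻¹ᵁ U).ι
    rw [hY.range_fromSpec, Scheme.Opens.range_ι]
  have isoX : ∀ (T : Over S), T.hom ⁻¹ᵁ U = ⊤ → IsIso (jX ▷ T) := by
    intro T hT
    obtain ⟨q, hq, -⟩ := exists_lift jX (fst X T)
      ((range_subset_preimage _ (preimage_eq_top_of_hom (snd X T) hT)).trans rangeX.ge)
    haveI : Mono jX := (Over.forget S).mono_of_mono_map (inferInstanceAs (Mono jX.left))
    have hcancel : (jX ▷ T) ≫ q = fst _ T := by
      rw [← cancel_mono jX, Category.assoc, hq, whiskerRight_fst]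
    refine ⟨lift q (snd X T), ?_, ?_⟩
    · apply CartesianMonoidalCategory.hom_ext
      · rw [Category.assoc, lift_fst, hcancel, Category.id_comp]
      · rw [Category.assoc, lift_snd, whiskerRight_snd, Category.id_comp]
    · apply CartesianMonoidalCategory.hom_ext
      · rw [Category.assoc, whiskerRight_fst, lift_fst_assoc, hq, Category.id_comp]
      · rw [Category.assoc, whiskerRight_snd, lift_snd, Category.id_comp]
  haveI := isoX (SA hU W) (preimage_SA hU W)
  refine ⟨⟨SA hU W, preimage_SA hU W, inferInstanceAs (IsAffine (Spec _)),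
    inv (jX ▷ SA hU W) ≫ ev ≫ jY, ?_⟩, fun h ↦ ?_, fun h ↦ ?_⟩
  · refine exists_hom_of_affine X Y (inv (jX ▷ SA hU W) ≫ ev ≫ jY) fun T _ hT φ ↦ ?_
    haveI := isoX T hT
    obtain ⟨φ', hφ', -⟩ := exists_lift jY ((jX ▷ T) ≫ φ)
      ((range_subset_preimage _ (preimage_eq_top_of_hom (snd _ T) hT)).trans rangeY.ge)
    have key : ∀ v : T ⟶ SA hU W,
        (X ◁ v) ≫ inv (jX ▷ SA hU W) ≫ ev ≫ jY = φ ↔ (_ ◁ v) ≫ ev = φ' := by
      intro v
      haveI : Mono jY := (Over.forget S).mono_of_mono_map (inferInstanceAs (Mono jY.left))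
      rw [← cancel_epi (jX ▷ T), ← hφ', ← whisker_exchange_assoc, IsIso.hom_inv_id_assoc,
        ← Category.assoc, cancel_mono]
    simp only [key]
    exact hev T hT φ'
  · haveI : Algebra.FiniteType Γ(S, U) W := hft (by
      have := LocallyOfFiniteType.finiteType_appLE (f := Y.hom) hU hY le_rfl
      rwa [← Scheme.Hom.app_eq_appLE] at this)
    change LocallyOfFiniteType (Spec.map _ ≫ hU.fromSpec)
    haveI : LocallyOfFiniteType (Spec.map (CommRingCat.ofHom (algebraMap Γ(S, U) W))) :=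
      (HasRingHomProperty.Spec_iff (P := @LocallyOfFiniteType)).mpr
        (RingHom.finiteType_algebraMap.mpr inferInstance)
    infer_instance
  · haveI : Algebra.FinitePresentation Γ(S, U) W := hfp (by
      have := LocallyOfFinitePresentation.finitePresentation_appLE (f := Y.hom) hU hY le_rfl
      rwa [← Scheme.Hom.app_eq_appLE] at this)
    change LocallyOfFinitePresentation (Spec.map _ ≫ hU.fromSpec)
    haveI : LocallyOfFinitePresentation (Spec.map (CommRingCat.ofHom (algebraMap Γ(S, U) W))) :=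
      (HasRingHomProperty.Spec_iff (P := @LocallyOfFinitePresentation)).mpr
        (RingHom.finitePresentation_algebraMap.mpr inferInstance)
    infer_instance

end Groth.Agent.HomRep
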