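import Groth.Agent.HomRep.MorS
import Groth.Agent.S16031

/-!
# Relative morphisms out of a finite locally free scheme: gluing over charts with affine image
-/

set_option autoImplicit false
set_option backward.isDefEq.respectTransparency false
set_option backward.isDefEq.respectTransparency.types false
set_option linter.style.haveILetI false

universe u

open CategoryTheory CategoryTheory.Limits AlgebraicGeometry Opposite

noncomputable section

namespace Groth.Agent.HomRep

variable {Z X S : Scheme.{u}} (g : Z ⟶ S) (f : X ⟶ S)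

/-- a family of morphisms parametrised by `T` -/
structure MFam (T : Scheme.{u}) : Type u where
  t : T ⟶ S
  φ : pullback t g ⟶ X
  w : φ ≫ f = pullback.snd t g ≫ g

namespace MFam

variable {g f} {T T' T'' : Scheme.{u}}

/-- the value of a family on a point of `Z` -/
def ev (x : MFam g f T) {P : Scheme.{u}} (a : P ⟶ T) (b : P ⟶ Z) (h : a ≫ x.t = b ≫ g) : P ⟶ X :=
  pullback.lift a b h ≫ x.φ

theorem ext' {x y : MFam g f T} (ht : x.t = y.t)
    (h : x.ev (pullback.fst x.t g) (pullback.snd _ _) pullback.condition =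
      y.ev (pullback.fst x.t g) (pullback.snd _ _) (ht ▸ pullback.condition)) : x = y := by
  obtain ⟨t, φ, w⟩ := x
  obtain ⟨t', φ', w'⟩ := y
  obtain rfl : t = t' := ht
  have e : pullback.lift (pullback.fst t g) (pullback.snd t g) pullback.condition = 𝟙 _ :=
    pullback.hom_ext (by simp) (by simp)
  simp only [ev, e, Category.id_comp] at h
  subst h
  rfl

theorem ev_congr {x y : MFam g f T} (e : x = y) {P : Scheme.{u}} (a : P ⟶ T) (b : P ⟶ Z)
    (h : a ≫ x.t = b ≫ g) : x.ev a b h = y.ev a b (e ▸ h) := by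
  subst e
  rfl

theorem ev_congr' (x : MFam g f T) {P : Scheme.{u}} {a a' : P ⟶ T} {b b' : P ⟶ Z} (ha : a = a') (hb : b = b')
    (h : a ≫ x.t = b ≫ g) : x.ev a b h = x.ev a' b' (ha ▸ hb ▸ h) := by
  subst ha hb
  rfl

theorem comp_ev (x : MFam g f T) {P Q : Scheme.{u}} (c : Q ⟶ P) (a : P ⟶ T) (b : P ⟶ Z) (h : a ≫ x.t = b ≫ g) :
    c ≫ x.ev a b h = x.ev (c ≫ a) (c ≫ b) (by rw [Category.assoc, h, Category.assoc]) := by
  rw [ev, ev, ← Category.assoc]
  congr 1
  apply pullback.hom_ext <;> simp

/-- base change of a family -/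
def restr (x : MFam g f T) (h : T' ⟶ T) : MFam g f T' where
  t := h ≫ x.t
  φ := x.ev (pullback.fst _ _ ≫ h) (pullback.snd _ _) (by rw [Category.assoc, pullback.condition])
  w := by rw [ev, Category.assoc, x.w, pullback.lift_snd_assoc]

theorem restr_ev (x : MFam g f T) (h : T' ⟶ T) {P : Scheme.{u}} (a : P ⟶ T') (b : P ⟶ Z)
    (hab : a ≫ h ≫ x.t = b ≫ g) :
    (x.restr h).ev a b hab = x.ev (a ≫ h) b (by rw [Category.assoc, hab]) := by
  show pullback.lift a b hab ≫ x.ev _ _ _ = _
  rw [comp_ev]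
  exact x.ev_congr' (by rw [pullback.lift_fst_assoc]) (pullback.lift_snd _ _ _) _

theorem restr_id (x : MFam g f T) : x.restr (𝟙 T) = x := by
  refine ext' (Category.id_comp _) ?_
  rw [restr_ev]
  exact x.ev_congr' (Category.comp_id _) rfl _

theorem restr_restr (x : MFam g f T) (h : T' ⟶ T) (h' : T'' ⟶ T') :
    (x.restr h).restr h' = x.restr (h' ≫ h) := by
  refine ext' (Category.assoc _ _ _).symm ?_
  rw [restr_ev, restr_ev, restr_ev]
  exact x.ev_congr' (Category.assoc _ _ _) rfl _

/-- a family is determined by its restrictions to an open cover -/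
theorem eq_of_restr {ι : Type u} {V : ι → Scheme.{u}} (j : ∀ i, V i ⟶ T) [∀ i, IsOpenImmersion (j i)]
    (hc : ∀ t : T, ∃ i, t ∈ Set.range (j i)) (x y : MFam g f T) (h : ∀ i, x.restr (j i) = y.restr (j i)) :
    x = y := by
  let 𝒰 : T.OpenCover := Scheme.Cover.mkOfCovers ι V j (fun t => hc t)
  have ht : x.t = y.t := Scheme.Cover.hom_ext 𝒰 _ _ fun i => congrArg MFam.t (h i)
  let 𝒱 : (pullback x.t g).OpenCover := 𝒰.pullback₁ (pullback.fst x.t g)
  refine ext' ht (Scheme.Cover.hom_ext 𝒱 _ _ fun i => ?_)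
  show pullback.fst (pullback.fst x.t g) (j i) ≫ _ = pullback.fst (pullback.fst x.t g) (j i) ≫ _
  rw [comp_ev, comp_ev]
  have h0 : pullback.snd (pullback.fst x.t g) (j i) ≫ (x.restr (j i)).t =
      (pullback.fst (pullback.fst x.t g) (j i) ≫ pullback.snd x.t g) ≫ g := by
    show pullback.snd _ _ ≫ j i ≫ x.t = _
    rw [← Category.assoc, ← pullback.condition, Category.assoc, pullback.condition, Category.assoc]
  have k := ev_congr (h i) _ _ h0
  rw [restr_ev, restr_ev] at k
  exact (x.ev_congr' pullback.condition rfl _).trans (k.trans (y.ev_congr' pullback.condition.symm rfl _))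

/-- the family lies in the chart `(W, U)` -/
def InChart (x : MFam g f T) (W : S.Opens) (U : X.Opens) : Prop :=
  Set.range x.t ⊆ W ∧ Set.range x.φ ⊆ U

/-- the points of the base over which a family lies in a chart -/
def chartLocus [IsFinite g] (x : MFam g f T) (W : S.Opens) (U : X.Opens) : T.Opens :=
  ⟨x.t ⁻¹' W ∩ ((pullback.fst x.t g) '' ((x.φ ⁻¹ᵁ U : (pullback x.t g).Opens) : Set _)ᶜ)ᶜ,
    (W.2.preimage x.t.continuous).inter
      (((pullback.fst x.t g).isClosedMap _ (x.φ ⁻¹ᵁ U).2.isClosed_compl).isOpen_compl)⟩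

theorem inChart_restr_iff [IsFinite g] (x : MFam g f T) (h : T' ⟶ T) (W : S.Opens) (U : X.Opens) :
    (x.restr h).InChart W U ↔ Set.range h ⊆ (x.chartLocus W U : Set T) := by
  constructor
  · rintro ⟨h1, h2⟩ _ ⟨p, rfl⟩
    refine ⟨h1 ⟨p, by rw [← Scheme.Hom.comp_apply]; rfl⟩, ?_⟩
    rintro ⟨z, hz, hzp⟩
    let m : pullback (h ≫ x.t) g ⟶ pullback x.t g :=
      pullback.lift (pullback.fst _ _ ≫ h) (pullback.snd _ _) (by rw [Category.assoc, pullback.condition])
    have hpb : IsPullback m (pullback.fst (h ≫ x.t) g) (pullback.fst x.t g) h := by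
      refine IsPullback.of_right ?_ (pullback.lift_fst _ _ _) (IsPullback.of_hasPullback x.t g).flip
      rw [pullback.lift_snd]
      exact (IsPullback.of_hasPullback (h ≫ x.t) g).flip
    obtain ⟨w, hw, hw'⟩ := Scheme.exists_preimage_of_isPullback hpb z p hzp
    refine hz ?_
    show x.φ z ∈ U
    rw [← hw, ← Scheme.Hom.comp_apply]
    exact h2 ⟨w, rfl⟩
  · intro hh
    refine ⟨?_, ?_⟩
    · rintro _ ⟨p, rfl⟩
      have := (hh ⟨p, rfl⟩).1
      rwa [show (x.restr h).t p = x.t (h p) from Scheme.Hom.comp_apply h x.t p]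
    · rintro _ ⟨w, rfl⟩
      let m : pullback (h ≫ x.t) g ⟶ pullback x.t g :=
        pullback.lift (pullback.fst _ _ ≫ h) (pullback.snd _ _) (by rw [Category.assoc, pullback.condition])
      show (m ≫ x.φ) w ∈ U
      rw [Scheme.Hom.comp_apply]
      by_contra hU
      refine (hh ⟨pullback.fst (h ≫ x.t) g w, rfl⟩).2 ⟨m w, hU, ?_⟩
      rw [← Scheme.Hom.comp_apply, pullback.lift_fst, Scheme.Hom.comp_apply]

theorem inChart_self_iff [IsFinite g] (x : MFam g f T) (W : S.Opens) (U : X.Opens) :
    x.InChart W U ↔ ∀ p : T, p ∈ x.chartLocus W U := by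
  have h := x.inChart_restr_iff (𝟙 T) W U
  rw [restr_id] at h
  rw [h]
  exact ⟨fun h p => h ⟨p, rfl⟩, fun h => by rintro _ ⟨p, rfl⟩; exact h _⟩

end MFam

/-- the functor of families -/
def mfunctor : Scheme.{u}ᵒᵖ ⥤ Type u where
  obj T := MFam g f T.unop
  map h := TypeCat.ofHom fun x => x.restr h.unop
  map_id T := by ext x; exact x.restr_id
  map_comp h h' := by ext x; exact (x.restr_restr h.unop h'.unop).symm

theorem isSheaf_mfunctor : Presieve.IsSheaf Scheme.zariskiTopology (mfunctor g f) := by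
  refine (Precoverage.isSheaf_toGrothendieck_iff_of_isStableUnderBaseChange_of_small.{u} _).mpr fun T E => ?_
  rw [PreZeroHypercover.presieve₀, Presieve.isSheafFor_arrows_iff]
  intro x hx
  obtain ⟨hc, ho⟩ := (Scheme.ofArrows_mem_precoverage_iff _).mp E.mem₀
  haveI : ∀ i, IsOpenImmersion (E.f i) := ho
  let 𝒰 : T.OpenCover := Scheme.Cover.mkOfCovers E.I₀ E.X E.f (fun t => hc t)
  have hx' : ∀ (i k : E.I₀) {W : Scheme.{u}} (a : W ⟶ E.X i) (b : W ⟶ E.X k),
      a ≫ E.f i = b ≫ E.f k → (x i).restr a = (x k).restr b := fun i k W a b hab => hx i k W a b hab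
  have ht : ∀ i k, pullback.fst (E.f i) (E.f k) ≫ (x i).t = pullback.snd _ _ ≫ (x k).t := fun i k =>
    congrArg MFam.t (hx' i k _ _ pullback.condition)
  let t : T ⟶ S := 𝒰.glueMorphisms (fun i => (x i).t) ht
  have hjt : ∀ i, E.f i ≫ t = (x i).t := fun i => 𝒰.ι_glueMorphisms _ ht i
  let 𝒱 : (pullback t g).OpenCover := 𝒰.pullback₁ (pullback.fst t g)
  have hcond : ∀ i, pullback.snd (pullback.fst t g) (E.f i) ≫ (x i).t =
      (pullback.fst (pullback.fst t g) (E.f i) ≫ pullback.snd t g) ≫ g := fun i => by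
    rw [← hjt i, ← Category.assoc, ← pullback.condition, Category.assoc, pullback.condition, Category.assoc]
  let ψ : ∀ i, pullback (pullback.fst t g) (E.f i) ⟶ X := fun i =>
    (x i).ev (pullback.snd _ _) (pullback.fst _ _ ≫ pullback.snd t g) (hcond i)
  have hψ : ∀ i k, pullback.fst (pullback.fst (pullback.fst t g) (E.f i)) (pullback.fst (pullback.fst t g) (E.f k)) ≫ ψ i =
      pullback.snd _ _ ≫ ψ k := fun i k => by
    rw [MFam.comp_ev, MFam.comp_ev]
    generalize hp : pullback.fst (pullback.fst (pullback.fst t g) (E.f i)) (pullback.fst (pullback.fst t g) (E.f k)) = p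
    generalize hq : pullback.snd (pullback.fst (pullback.fst t g) (E.f i)) (pullback.fst (pullback.fst t g) (E.f k)) = q
    have hpq : p ≫ pullback.fst _ _ = q ≫ pullback.fst (pullback.fst t g) (E.f k) := by
      rw [← hp, ← hq, pullback.condition]
    have hab : (p ≫ pullback.snd (pullback.fst t g) (E.f i)) ≫ E.f i = (q ≫ pullback.snd _ _) ≫ E.f k := by
      rw [Category.assoc, ← pullback.condition, ← Category.assoc, hpq, Category.assoc, Category.assoc,
        pullback.condition]
    have hb : p ≫ pullback.fst (pullback.fst t g) (E.f i) ≫ pullback.snd t g =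
        q ≫ pullback.fst _ _ ≫ pullback.snd t g := by
      rw [← Category.assoc, hpq, Category.assoc]
    have h0 : 𝟙 _ ≫ ((x i).restr (p ≫ pullback.snd (pullback.fst t g) (E.f i))).t =
        (p ≫ pullback.fst (pullback.fst t g) (E.f i) ≫ pullback.snd t g) ≫ g := by
      show 𝟙 _ ≫ (p ≫ pullback.snd _ _) ≫ (x i).t = _
      rw [Category.id_comp, Category.assoc, hcond]
      simp only [Category.assoc]
    have key := MFam.ev_congr (hx' i k _ _ hab) (𝟙 _) _ h0
    rw [MFam.restr_ev, MFam.restr_ev] at key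
    refine ((x i).ev_congr' (Category.id_comp _).symm rfl _).trans (key.trans ?_)
    exact (x k).ev_congr' (Category.id_comp _) hb _
  let φ : pullback t g ⟶ X := 𝒱.glueMorphisms ψ hψ
  have hφ : ∀ i, pullback.fst (pullback.fst t g) (E.f i) ≫ φ = ψ i := fun i => 𝒱.ι_glueMorphisms _ hψ i
  have hw : φ ≫ f = pullback.snd t g ≫ g := Scheme.Cover.hom_ext 𝒱 _ _ fun i => by
    show pullback.fst (pullback.fst t g) (E.f i) ≫ φ ≫ f = pullback.fst (pullback.fst t g) (E.f i) ≫ _
    rw [← Category.assoc, hφ i]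
    show (pullback.lift _ _ _ ≫ (x i).φ) ≫ f = _
    rw [Category.assoc, (x i).w, pullback.lift_snd_assoc, Category.assoc]
  have hex : ∀ i, MFam.restr ⟨t, φ, hw⟩ (E.f i) = x i := fun i => by
    refine MFam.ext' (x := MFam.restr ⟨t, φ, hw⟩ (E.f i)) (hjt i) ?_
    rw [MFam.restr_ev]
    let c : pullback (E.f i ≫ t) g ⟶ pullback (pullback.fst t g) (E.f i) :=
      pullback.lift (pullback.lift (pullback.fst _ _ ≫ E.f i) (pullback.snd _ _)
        (by rw [Category.assoc, pullback.condition])) (pullback.fst _ _) (pullback.lift_fst _ _ _)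
    have h1 : MFam.ev ⟨t, φ, hw⟩ (pullback.fst (E.f i ≫ t) g ≫ E.f i) (pullback.snd _ _)
        ((Category.assoc _ _ _).trans pullback.condition) = c ≫ ψ i := by
      refine Eq.trans ?_ (congrArg (c ≫ ·) (hφ i))
      refine Eq.trans ?_ (Category.assoc _ _ _)
      exact congrArg (· ≫ φ) (pullback.lift_fst _ _ _).symm
    refine h1.trans ?_
    rw [MFam.comp_ev]
    exact (x i).ev_congr' (pullback.lift_snd _ _ _) (by rw [pullback.lift_fst_assoc, pullback.lift_snd]; rfl) _
  refine ⟨⟨t, φ, hw⟩, hex, fun y hy => ?_⟩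
  · refine MFam.eq_of_restr E.f hc y _ fun i => (hy i).trans ?_
    refine (hex i).symm

/-- a chart: an affine open of the base and an affine open of the target over it -/
structure MChart : Type u where
  W : S.Opens
  U : X.Opens
  hW : IsAffineOpen W
  hU : IsAffineOpen U
  le : U ≤ f ⁻¹ᵁ W

variable {g f}

/-- families in a chart are the points of an affine scheme -/
theorem exists_chartRep [IsFinite g] [Flat g] [LocallyOfFinitePresentation g] (c : MChart f) :
    ∃ (M : Scheme.{u}) (x₀ : MFam g f M), x₀.InChart c.W c.U ∧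
      ∀ (T : Scheme.{u}) (x : MFam g f T), x.InChart c.W c.U → ∃! h : T ⟶ M, x₀.restr h = x := by
  let gW := pullback.fst c.W.ι g
  let fU : c.U.toScheme ⟶ c.W.toScheme := f.resLE c.W c.U c.le
  haveI : IsAffine c.W.toScheme := c.hW
  haveI : IsAffine c.U.toScheme := c.hU
  haveI : IsFinite (Over.mk gW).hom := inferInstanceAs (IsFinite (pullback.fst c.W.ι g))
  haveI : Flat (Over.mk gW).hom := inferInstanceAs (Flat (pullback.fst c.W.ι g))
  haveI : LocallyOfFinitePresentation (Over.mk gW).hom :=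
    inferInstanceAs (LocallyOfFinitePresentation (pullback.fst c.W.ι g))
  haveI : IsAffineHom (Over.mk fU).hom := inferInstanceAs (IsAffineHom fU)
  obtain ⟨M, -, ⟨r⟩⟩ := morS_representable gW fU
  let b₀ := r.homEquiv (𝟙 M)
  -- the comparison of the two models of the base change
  let cmp : ∀ {T : Scheme.{u}} (t' : T ⟶ c.W.toScheme), pullback (t' ≫ c.W.ι) g ⟶ pullback t' gW := fun t' =>
    pullback.lift (pullback.fst _ _) (pullback.lift (pullback.fst _ _ ≫ t') (pullback.snd _ _)
      (by rw [Category.assoc, pullback.condition])) (pullback.lift_fst _ _ _).symm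
  let inv : ∀ {T : Scheme.{u}} (t' : T ⟶ c.W.toScheme), pullback t' gW ⟶ pullback (t' ≫ c.W.ι) g := fun t' =>
    pullback.lift (pullback.fst _ _) (pullback.snd _ _ ≫ pullback.snd _ _) (by
      rw [← Category.assoc, pullback.condition, Category.assoc, Category.assoc, pullback.condition])
  have cmp_inv : ∀ {T : Scheme.{u}} (t' : T ⟶ c.W.toScheme), cmp t' ≫ inv t' = 𝟙 _ := fun t' => by
    apply pullback.hom_ext
    · rw [Category.assoc, pullback.lift_fst, pullback.lift_fst, Category.id_comp]
    · rw [Category.assoc, pullback.lift_snd, pullback.lift_snd_assoc, pullback.lift_snd, Category.id_comp]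
  have inv_cmp : ∀ {T : Scheme.{u}} (t' : T ⟶ c.W.toScheme), inv t' ≫ cmp t' = 𝟙 _ := fun t' => by
    apply pullback.hom_ext
    · rw [Category.assoc, pullback.lift_fst, pullback.lift_fst, Category.id_comp]
    · rw [Category.assoc, pullback.lift_snd, Category.id_comp]
      apply pullback.hom_ext
      · rw [Category.assoc, pullback.lift_fst, pullback.lift_fst_assoc, pullback.condition]
      · rw [Category.assoc, pullback.lift_snd, pullback.lift_snd]
  let mkFam : ∀ (T : Over c.W.toScheme) (b : (Flatn.morS gW fU).obj (op T)), MFam g f T.left := fun T b =>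
    { t := T.hom ≫ c.W.ι
      φ := cmp T.hom ≫ b.left ≫ c.U.ι
      w := by
        have hb : b.left ≫ fU = pullback.snd T.hom gW ≫ gW := Over.w b
        rw [Category.assoc, Category.assoc, ← Scheme.Hom.resLE_comp_ι f c.le, reassoc_of% hb, pullback.condition,
          pullback.lift_snd_assoc, pullback.lift_snd_assoc] }
  have hnat : ∀ {T T' : Over c.W.toScheme} (v : T' ⟶ T) (b : (Flatn.morS gW fU).obj (op T)),
      (mkFam T b).restr v.left = mkFam T' ((Flatn.morS gW fU).map v.op b) := fun {T T'} v b => by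
    refine MFam.ext' (by
      show v.left ≫ T.hom ≫ c.W.ι = T'.hom ≫ c.W.ι
      rw [Over.w_assoc]) ?_
    rw [MFam.restr_ev]
    show pullback.lift _ _ _ ≫ cmp T.hom ≫ b.left ≫ c.U.ι =
      pullback.lift _ _ _ ≫ cmp T'.hom ≫ (((Over.pullback gW).map v).left ≫ b.left) ≫ c.U.ι
    simp only [← Category.assoc]
    congr 2
    apply pullback.hom_ext
    · simp [cmp, gW]
    · apply pullback.hom_ext
      · simp [cmp, gW, Over.w_assoc]
      · simp [cmp, gW]
  refine ⟨M.left, mkFam M b₀, ⟨?_, ?_⟩, fun T x hx => ?_⟩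
  · rintro _ ⟨p, rfl⟩
    exact (congrArg (· ∈ (c.W : Set S)) (Scheme.Hom.comp_apply M.hom c.W.ι p)).mpr (M.hom p).2
  · rintro _ ⟨p, rfl⟩
    exact (congrArg (· ∈ (c.U : Set X)) (Scheme.Hom.comp_apply (cmp M.hom ≫ b₀.left) c.U.ι p)).mpr
      ((cmp M.hom ≫ b₀.left) p).2
  · let t' : T ⟶ c.W.toScheme := IsOpenImmersion.lift c.W.ι x.t (by rw [Scheme.Opens.range_ι]; exact hx.1)
    have ht' : t' ≫ c.W.ι = x.t := IsOpenImmersion.lift_fac _ _ _
    let φ' : pullback t' gW ⟶ c.U.toScheme := IsOpenImmersion.lift c.U.ι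
      (inv t' ≫ x.ev (pullback.fst _ _) (pullback.snd _ _) (ht' ▸ pullback.condition)) (by
        rintro _ ⟨p, rfl⟩
        rw [Scheme.Opens.range_ι, MFam.ev, ← Category.assoc, Scheme.Hom.comp_apply]
        exact hx.2 ⟨_, rfl⟩)
    have hφ' : φ' ≫ c.U.ι = inv t' ≫ x.ev (pullback.fst _ _) (pullback.snd _ _) (ht' ▸ pullback.condition) :=
      IsOpenImmersion.lift_fac _ _ _
    have hφw : φ' ≫ fU = pullback.snd t' gW ≫ gW := by
      rw [← cancel_mono c.W.ι, Category.assoc, Category.assoc, Scheme.Hom.resLE_comp_ι, reassoc_of% hφ', MFam.ev,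
        Category.assoc, x.w, pullback.lift_snd_assoc, pullback.lift_snd_assoc, Category.assoc, pullback.condition]
    let b : (Flatn.morS gW fU).obj (op (Over.mk t')) := Over.homMk φ' hφw
    have hb : mkFam (Over.mk t') b = x := by
      refine MFam.ext' ht' ?_
      show pullback.lift _ _ _ ≫ cmp t' ≫ φ' ≫ c.U.ι = _
      rw [hφ', ← Category.assoc (cmp t'), cmp_inv, Category.id_comp, MFam.comp_ev]
      exact x.ev_congr' (pullback.lift_fst _ _ _) (pullback.lift_snd _ _ _) _
    have he : ∀ (T' : Over c.W.toScheme) (v : T' ⟶ M),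
        (mkFam M b₀).restr v.left = mkFam T' (r.homEquiv v) := fun T' v => by
      rw [hnat]
      congr 1
      have := r.homEquiv_comp v (𝟙 M)
      rw [Category.comp_id] at this
      exact this.symm
    refine ⟨(r.homEquiv.symm b).left, ?_, fun h hh => ?_⟩
    · refine (he (Over.mk t') _).trans ?_
      rw [Equiv.apply_symm_apply, hb]
    · have ht : h ≫ M.hom = t' := by
        rw [← cancel_mono c.W.ι, ht', Category.assoc]
        exact congrArg MFam.t hh
      let v : Over.mk t' ⟶ M := Over.homMk h ht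
      suffices hv : v = r.homEquiv.symm b from congrArg CommaMorphism.left hv
      rw [Equiv.eq_symm_apply]
      have e : mkFam (Over.mk t') (r.homEquiv v) = mkFam (Over.mk t') b := by
        rw [← he (Over.mk t') v, hb]
        exact hh
      have hinj : cmp t' ≫ (r.homEquiv v).left ≫ c.U.ι = cmp t' ≫ φ' ≫ c.U.ι := by
        have := MFam.ev_congr e (pullback.fst (t' ≫ c.W.ι) g) (pullback.snd _ _) pullback.condition
        simp [MFam.ev, mkFam] at this
        exact this
      apply Over.OverMorphism.ext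
      rw [← cancel_mono c.U.ι]
      show (r.homEquiv v).left ≫ c.U.ι = φ' ≫ c.U.ι
      have := congrArg (inv t' ≫ ·) hinj
      simpa only [← Category.assoc, inv_cmp, Category.id_comp] using this

/-- if every fibre of every family lands in an affine open, the functor of relative morphisms is representable -/
theorem morS_isRepresentable [IsFinite g] [Flat g] [LocallyOfFinitePresentation g]
    (hgood : ∀ (T : Scheme.{u}) (x : MFam g f T) (p : T),
      ∃ U : X.Opens, IsAffineOpen U ∧ ∀ z, pullback.fst x.t g z = p → x.φ z ∈ U) :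
    (Flatn.morS g f).IsRepresentable := by
  classical
  have hchart : ∀ (T : Scheme.{u}) (x : MFam g f T) (p : T), ∃ c : MChart f, p ∈ x.chartLocus c.W c.U := by
    intro T x p
    obtain ⟨W, hW, hpW, -⟩ := exists_isAffineOpen_mem_and_subset (x := x.t p) (U := (⊤ : S.Opens)) trivial
    obtain ⟨U, hU, hmem⟩ := hgood T x p
    let F : Set X := x.φ '' (pullback.fst x.t g ⁻¹' {p})
    have hF : F.Finite := ((pullback.fst x.t g).finite_preimage_singleton p).image _
    have hsub : F ⊆ ((U ⊓ f ⁻¹ᵁ W : X.Opens) : Set X) := by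
      rintro _ ⟨z, hz, rfl⟩
      refine ⟨hmem z hz, ?_⟩
      show f (x.φ z) ∈ W
      rw [← Scheme.Hom.comp_apply, x.w, ← pullback.condition, Scheme.Hom.comp_apply, show pullback.fst x.t g z = p from hz]
      exact hpW
    obtain ⟨a, ha, hFa⟩ := S16031.exists_basicOpen_finite hU (U ⊓ f ⁻¹ᵁ W) hF (fun _ hy => (hsub hy).1) hsub
    refine ⟨⟨W, X.basicOpen a, hW, hU.basicOpen a, fun _ hy => (ha hy).2⟩, hpW, ?_⟩
    rintro ⟨z, hz, hzp⟩
    exact hz (hFa ⟨z, hzp, rfl⟩)
  choose M x₀ hx₀ huniv using fun c : MChart f => exists_chartRep (g := g) c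
  let F : Sheaf Scheme.zariskiTopology (Type u) :=
    ⟨mfunctor g f, (isSheaf_iff_isSheaf_of_type _ _).mpr (isSheaf_mfunctor g f)⟩
  let κ : ∀ c : MChart f, yoneda.obj (M c) ⟶ mfunctor g f := fun c => yonedaEquiv.symm (x₀ c)
  have κapp : ∀ (c : MChart f) {Y : Scheme.{u}} (h : Y ⟶ M c), (κ c).app (op Y) h = (x₀ c).restr h :=
    fun c _ h => rfl
  have hopen : ∀ c, IsOpenImmersion.presheaf (κ c) := fun c => by
    refine MorphismProperty.relative.of_exists fun T q => ?_
    let z : MFam g f T := yonedaEquiv q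
    have hq : ∀ (Y : Scheme.{u}ᵒᵖ) (y : Y.unop ⟶ T), q.app Y y = z.restr y := fun Y y => by
      conv_lhs => rw [← yonedaEquiv.symm_apply_apply q]
      rfl
    let O := z.chartLocus c.W c.U
    obtain ⟨k, hk, -⟩ := huniv c _ (z.restr O.ι)
      ((z.inChart_restr_iff O.ι _ _).2 (by rw [Scheme.Opens.range_ι]))
    refine ⟨O.toScheme, yoneda.map k, O.ι, ?_, inferInstance⟩
    refine IsPullback.of_forall_isPullback_app fun Y => ?_
    refine (Types.isPullback_iff _ _ _ _).mpr ⟨?_, ?_, ?_⟩
    · ext (a : Y.unop ⟶ O.toScheme)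
      change (κ c).app (op Y.unop) (a ≫ k) = q.app Y (a ≫ O.ι)
      rw [κapp, hq, ← MFam.restr_restr, hk, MFam.restr_restr]
    · rintro (a : Y.unop ⟶ O.toScheme) (a' : Y.unop ⟶ O.toScheme) h
      exact (cancel_mono O.ι).mp h.2
    · rintro (a : Y.unop ⟶ M c) (y : Y.unop ⟶ T) h
      rw [κapp, hq] at h
      have hin : (z.restr y).InChart c.W c.U := by
        rw [← h]
        exact ((x₀ c).inChart_restr_iff a _ _).2 fun _ _ => ((x₀ c).inChart_self_iff _ _).1 (hx₀ c) _
      let l := IsOpenImmersion.lift O.ι y (by rw [Scheme.Opens.range_ι]; exact (z.inChart_restr_iff y _ _).1 hin)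
      have hl : l ≫ O.ι = y := IsOpenImmersion.lift_fac _ _ _
      refine ⟨l, ?_, hl⟩
      change l ≫ k = a
      refine (huniv c _ (z.restr y) hin).unique ?_ h
      rw [← MFam.restr_restr, hk, MFam.restr_restr, hl]
  haveI : Presheaf.IsLocallySurjective Scheme.zariskiTopology (Sigma.desc κ) := by
    refine ⟨fun {T} (z : MFam g f T) => ?_⟩
    choose c hc using hchart T z
    let 𝒰 : T.OpenCover := Scheme.Cover.mkOfCovers T (fun p => (z.chartLocus (c p).W (c p).U).toScheme)
      (fun p => (z.chartLocus (c p).W (c p).U).ι) fun p => ⟨p, ⟨p, hc p⟩, rfl⟩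
    refine GrothendieckTopology.superset_covering _ ?_ 𝒰.mem_grothendieckTopology
    rintro V h ⟨W, a, _, ⟨p⟩, rfl⟩
    obtain ⟨k, hk, -⟩ := huniv (c p) _ (z.restr (z.chartLocus (c p).W (c p).U).ι)
      ((z.inChart_restr_iff _ _ _).2 (by rw [Scheme.Opens.range_ι]))
    refine ⟨(Sigma.ι (fun c => yoneda.obj (M c)) (c p)).app (op V) (a ≫ k), ?_⟩
    change ((Sigma.ι (fun c => yoneda.obj (M c)) (c p)) ≫ Sigma.desc κ).app (op V) (a ≫ k) = _
    rw [Sigma.ι_desc, κapp, ← MFam.restr_restr]
    exact (congrArg (fun w => MFam.restr w a) hk).trans (MFam.restr_restr z _ a)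
  obtain ⟨H, ⟨r⟩⟩ := Scheme.LocalRepresentability.isRepresentable (F := F) (f := κ) hopen
  let xH : MFam g f H := r.homEquiv (𝟙 H)
  have he : ∀ {T : Scheme.{u}} (m : T ⟶ H), r.homEquiv m = xH.restr m := fun m => by
    rw [r.homEquiv_eq m]
    rfl
  let toElt : ∀ T : Over S, (T ⟶ Over.mk xH.t) → (Flatn.morS g f).obj (op T) := fun T v =>
    Over.homMk (xH.ev (pullback.fst T.hom g ≫ v.left) (pullback.snd T.hom g)
      (by
        rw [Category.assoc, show v.left ≫ xH.t = T.hom from Over.w v]
        exact pullback.condition)) (by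
      show xH.ev _ _ _ ≫ f = pullback.snd T.hom g ≫ g
      rw [MFam.ev, Category.assoc, xH.w, pullback.lift_snd_assoc])
  have hbij : ∀ T, Function.Bijective (toElt T) := fun T => by
    have key : ∀ (v : T ⟶ Over.mk xH.t) (b : (Flatn.morS g f).obj (op T)),
        xH.restr v.left = ⟨T.hom, b.left, Over.w b⟩ ↔ toElt T v = b := by
      intro v b
      have hv : v.left ≫ xH.t = T.hom := Over.w v
      constructor
      · intro e
        apply Over.OverMorphism.ext
        have := MFam.ev_congr e (pullback.fst T.hom g) (pullback.snd T.hom g)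
          (show pullback.fst T.hom g ≫ v.left ≫ xH.t = _ by rw [hv, pullback.condition])
        rw [MFam.restr_ev] at this
        refine this.trans ?_
        show pullback.lift _ _ _ ≫ b.left = b.left
        have hid : pullback.lift (pullback.fst T.hom g) (pullback.snd T.hom g) pullback.condition =
            𝟙 (pullback T.hom g) := pullback.hom_ext (by simp) (by simp)
        exact (congrArg (· ≫ b.left) hid).trans (Category.id_comp _)
      · intro e
        subst e
        refine MFam.ext' hv ?_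
        rw [MFam.restr_ev]
        symm
        show pullback.lift _ _ _ ≫ xH.ev _ _ _ = _
        rw [MFam.comp_ev]
        exact xH.ev_congr' (by rw [pullback.lift_fst_assoc]) (pullback.lift_snd _ _ _) _
    refine ⟨fun v w e => Over.OverMorphism.ext (r.homEquiv.injective ?_), fun b => ?_⟩
    · rw [he, he, (key v (toElt T w)).2 e, (key w (toElt T w)).2 rfl]
    · let z : MFam g f T.left := ⟨T.hom, b.left, Over.w b⟩
      have hz : xH.restr (r.homEquiv.symm z) = z := (he _).symm.trans (r.homEquiv.apply_symm_apply z)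
      exact ⟨Over.homMk (r.homEquiv.symm z) (congrArg MFam.t hz), (key _ b).1 hz⟩
  refine ⟨Over.mk xH.t, ⟨{ homEquiv := fun {T} => Equiv.ofBijective (toElt T) (hbij T), homEquiv_comp := ?_ }⟩⟩
  intro T T' v w
  apply Over.OverMorphism.ext
  show xH.ev _ _ _ = ((Over.pullback g).map v).left ≫ xH.ev _ _ _
  rw [MFam.comp_ev]
  exact xH.ev_congr' (by simp) (by simp) _

end Groth.Agent.HomRep
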