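import Groth.Agent.HomRep.HomScheme
import Groth.Prelude.Def_Flatn

/-!
# The functor of relative morphisms out of a finite locally free scheme
-/

set_option autoImplicit false
set_option backward.isDefEq.respectTransparency false
set_option backward.isDefEq.respectTransparency.types false

universe u

open CategoryTheory CategoryTheory.Limits AlgebraicGeometry Opposite MonoidalCategory CartesianMonoidalCategory

namespace Groth.Agent.HomRep

variable {Z X S : Scheme.{u}} (g : Z ⟶ S) (f : X ⟶ S)

/-- `T ×_S Z` in the two models -/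
noncomputable def swapObjIso (T : Over S) :
    (Over.mk g ⊗ T) ≅ (Over.map g).obj ((Over.pullback g).obj T) :=
  Over.isoMk (pullbackSymmetry g T.hom) (by
    change (pullbackSymmetry g T.hom).hom ≫ pullback.snd T.hom g ≫ g = pullback.fst g T.hom ≫ g
    rw [pullbackSymmetry_hom_comp_snd_assoc])

lemma swapObjIso_natural {T T' : Over S} (v : T' ⟶ T) :
    (Over.mk g ◁ v) ≫ (swapObjIso g T).hom =
      (swapObjIso g T').hom ≫ (Over.map g).map ((Over.pullback g).map v) := by
  apply Over.OverMorphism.ext
  show (Over.mk g ◁ v).left ≫ (pullbackSymmetry g T.hom).hom =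
    (pullbackSymmetry g T'.hom).hom ≫ ((Over.pullback g).map v).left
  apply pullback.hom_ext
  · rw [Category.assoc, Category.assoc, pullbackSymmetry_hom_comp_fst]
    refine (Over.whiskerLeft_left_snd (R := Over.mk g) v).trans ?_
    refine Eq.trans ?_ (congrArg ((pullbackSymmetry g T'.hom).hom ≫ ·) (pullback.lift_fst _ _ _)).symm
    rw [pullbackSymmetry_hom_comp_fst_assoc]
    rfl
  · rw [Category.assoc, Category.assoc, pullbackSymmetry_hom_comp_snd]
    refine (Over.whiskerLeft_left_fst (R := Over.mk g) v).trans ?_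
    refine Eq.trans ?_ (congrArg ((pullbackSymmetry g T'.hom).hom ≫ ·) (pullback.lift_snd _ _ _)).symm
    exact (pullbackSymmetry_hom_comp_snd g T'.hom).symm

theorem morS_representable [IsFinite (Over.mk g).hom] [Flat (Over.mk g).hom]
    [LocallyOfFinitePresentation (Over.mk g).hom] [IsAffineHom (Over.mk f).hom] :
    ∃ W : Over S, IsAffineHom W.hom ∧ Nonempty ((Flatn.morS g f).RepresentableBy W) := by
  obtain ⟨M, ev, hM, -, -, huniv⟩ := exists_homScheme (Over.mk g) (Over.mk f)
  refine ⟨M, hM, ⟨{ homEquiv := fun {T} => ?_, homEquiv_comp := ?_ }⟩⟩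
  · exact (Equiv.ofBijective (fun v : T ⟶ M => (Over.mk g ◁ v) ≫ ev) ⟨fun a b h => (huniv T _).unique h rfl,
      fun φ => (huniv T φ).exists⟩).trans ((swapObjIso g T).homFromEquiv)
  · intro T T' v w
    show (swapObjIso g T).inv ≫ (Over.mk g ◁ (v ≫ w)) ≫ ev =
      (Over.map g).map ((Over.pullback g).map v) ≫ (swapObjIso g T').inv ≫ (Over.mk g ◁ w) ≫ ev
    rw [whiskerLeft_comp_assoc, Iso.inv_comp_eq, ← Category.assoc (swapObjIso g T).hom,
      ← swapObjIso_natural g v, Category.assoc, Iso.hom_inv_id_assoc]

end Groth.Agent.HomRep
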