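import Mathlib

/-!
# Gluing representing schemes over the affine opens of the base

A presheaf on `Over S` which is a sheaf for the coverings pulled back from the affine opens of `S`
and is representable over each affine open by an affine scheme is representable by a scheme affine
over `S`.
-/

set_option autoImplicit false
set_option backward.isDefEq.respectTransparency false

universe u

open CategoryTheory CategoryTheory.Limits AlgebraicGeometry TopologicalSpace Opposite

namespace Groth.Agent.HomRep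

open Scheme (AffineZariskiSite)

variable {S : Scheme.{u}}

/-- `T` restricted over an open of the base -/
noncomputable abbrev restr (T : Over S) (U : S.Opens) : Over S :=
  Over.mk ((T.hom ⁻¹ᵁ U).ι ≫ T.hom)

noncomputable def incl (T : Over S) (U : S.Opens) : restr T U ⟶ T :=
  Over.homMk (T.hom ⁻¹ᵁ U).ι rfl

@[simp] lemma incl_left (T : Over S) (U : S.Opens) : (incl T U).left = (T.hom ⁻¹ᵁ U).ι := rfl

instance (T : Over S) (U : S.Opens) : IsOpenImmersion (incl T U).left :=
  inferInstanceAs (IsOpenImmersion (T.hom ⁻¹ᵁ U).ι)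

lemma preimage_mono_open (T : Over S) {V U : S.Opens} (h : V ≤ U) : T.hom ⁻¹ᵁ V ≤ T.hom ⁻¹ᵁ U :=
  fun _ hx ↦ h hx

lemma restr_preimage (T : Over S) (U : S.Opens) : (restr T U).hom ⁻¹ᵁ U = ⊤ := by
  change (T.hom ⁻¹ᵁ U).ι ⁻¹ᵁ (T.hom ⁻¹ᵁ U) = ⊤
  simp

noncomputable def inclLE (T : Over S) {V U : S.Opens} (h : V ≤ U) : restr T V ⟶ restr T U :=
  Over.homMk (T.left.homOfLE (preimage_mono_open T h)) (T.left.homOfLE_ι_assoc (preimage_mono_open T h) T.hom)

@[reassoc (attr := simp)]
lemma inclLE_incl (T : Over S) {V U : S.Opens} (h : V ≤ U) :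
    inclLE T h ≫ incl T U = incl T V :=
  Over.OverMorphism.ext (T.left.homOfLE_ι (preimage_mono_open T h))

/-- morphisms over `S` into `A` with target in the preimage of `U` -/
lemma exists_lift {T A B : Over S} (j : B ⟶ A) [IsOpenImmersion j.left] (v : T ⟶ A)
    (h : Set.range v.left ⊆ Set.range j.left) : ∃! w : T ⟶ B, w ≫ j = v := by
  refine ⟨Over.homMk (IsOpenImmersion.lift j.left v.left h) ?_, ?_, fun w hw ↦ ?_⟩
  · rw [← Over.w j, IsOpenImmersion.lift_fac_assoc, Over.w v]
  · exact Over.OverMorphism.ext (IsOpenImmersion.lift_fac _ _ _)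
  · apply Over.OverMorphism.ext
    refine (cancel_mono j.left).mp ?_
    exact ((Over.comp_left _ _ _ _ _).symm.trans (congrArg CommaMorphism.left hw)).trans (IsOpenImmersion.lift_fac _ _ _).symm

lemma range_subset_preimage {T A : Over S} (v : T ⟶ A) {U : S.Opens} (h : T.hom ⁻¹ᵁ U = ⊤) :
    Set.range v.left ⊆ Set.range (incl A U).left := by
  rintro _ ⟨t, rfl⟩
  rw [incl_left]
  erw [Scheme.Opens.range_ι]
  have : t ∈ T.hom ⁻¹ᵁ U := h ▸ trivial
  change A.hom (v.left t) ∈ U
  rwa [← Scheme.Hom.comp_apply, Over.w v]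

lemma preimage_eq_top_of_hom {T A : Over S} (v : T ⟶ A) {U : S.Opens} (h : A.hom ⁻¹ᵁ U = ⊤) :
    T.hom ⁻¹ᵁ U = ⊤ := by
  rw [← Over.w v, Scheme.Hom.comp_preimage, h, Scheme.Hom.preimage_top]

variable (P : (Over S)ᵒᵖ ⥤ Type u)

/-- gluing along the affine opens of the base -/
def Glues : Prop :=
  ∀ (T : Over S) (y : ∀ U : S.AffineZariskiSite, P.obj (op (restr T U.1))),
    (∀ (V U : S.AffineZariskiSite) (h : V ≤ U),
      P.map (inclLE T (AffineZariskiSite.toOpens_mono h)).op (y U) = y V) →
    ∃! z : P.obj (op T), ∀ U, P.map (incl T U.1).op z = y U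

/-- a representing affine scheme over an open `U` -/
structure Rep (U : S.Opens) where
  A : Over S
  le : A.hom ⁻¹ᵁ U = ⊤
  affine : IsAffine A.left
  x : P.obj (op A)
  exists_hom : ∀ (T : Over S), T.hom ⁻¹ᵁ U = ⊤ → ∀ y : P.obj (op T),
    ∃! v : T ⟶ A, P.map v.op x = y

variable {P}

section

variable (R : ∀ U : S.AffineZariskiSite, Rep P U.1)

/-- the transition map -/
noncomputable def tr {V U : S.AffineZariskiSite} (h : V ≤ U) : (R V).A ⟶ (R U).A :=
  ((R U).exists_hom (R V).A
    (top_le_iff.mp ((R V).le.ge.trans (preimage_mono_open _ (AffineZariskiSite.toOpens_mono h))))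
    (R V).x).choose

lemma map_tr {V U : S.AffineZariskiSite} (h : V ≤ U) : P.map (tr R h).op (R U).x = (R V).x :=
  ((R U).exists_hom (R V).A (top_le_iff.mp ((R V).le.ge.trans
    (preimage_mono_open _ (AffineZariskiSite.toOpens_mono h)))) (R V).x).choose_spec.1

lemma hom_ext_rep {T : Over S} {U : S.AffineZariskiSite} (v w : T ⟶ (R U).A)
    (e : P.map v.op (R U).x = P.map w.op (R U).x) : v = w :=
  ((R U).exists_hom T (preimage_eq_top_of_hom v (R U).le) _).unique e rfl

/-- the map to the open -/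
noncomputable def toOpen (U : S.AffineZariskiSite) : (R U).A.left ⟶ U.1.toScheme :=
  IsOpenImmersion.lift U.1.ι (R U).A.hom (by
    rintro _ ⟨t, rfl⟩
    rw [Scheme.Opens.range_ι]
    exact (show t ∈ (R U).A.hom ⁻¹ᵁ U.1 from (R U).le ▸ trivial))

@[reassoc (attr := simp)]
lemma toOpen_ι (U : S.AffineZariskiSite) : toOpen R U ≫ U.1.ι = (R U).A.hom :=
  IsOpenImmersion.lift_fac _ _ _

noncomputable def functor : S.AffineZariskiSite ⥤ Scheme.{u} where
  obj U := (R U).A.left
  map h := (tr R h.le).left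
  map_id U := by
    rw [show tr R (𝟙 U : U ⟶ U).le = 𝟙 _ from hom_ext_rep R _ _ (by rw [map_tr]; simp)]
    rfl
  map_comp {W V U} h h' := by
    rw [show tr R (h ≫ h').le = tr R h.le ≫ tr R h'.le from
      hom_ext_rep R _ _ (by rw [map_tr, op_comp, Functor.map_comp_apply, map_tr, map_tr])]
    rfl

noncomputable def natTrans :
    functor R ⟶ (AffineZariskiSite.directedCover S).functorOfLocallyDirected where
  app U := toOpen R U
  naturality {V U} h := by
    rw [← cancel_mono U.1.ι]
    change ((tr R h.le).left ≫ toOpen R U) ≫ U.1.ι =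
      (toOpen R V ≫ S.homOfLE (AffineZariskiSite.toOpens_mono h.le)) ≫ U.1.ι
    simp only [Category.assoc, Scheme.homOfLE_ι, toOpen_ι, Over.w]

lemma isPullback_tr {V U : S.AffineZariskiSite} (h : V ≤ U) :
    IsPullback (toOpen R V) (tr R h).left (S.homOfLE (AffineZariskiSite.toOpens_mono h))
      (toOpen R U) := by
  let B := restr (R U).A V.1
  obtain ⟨a, ha, -⟩ := exists_lift (incl (R U).A V.1) (tr R h)
    (range_subset_preimage (tr R h) (R V).le)
  obtain ⟨b, hb, -⟩ := (R V).exists_hom B (restr_preimage _ _) (P.map (incl (R U).A V.1).op (R U).x)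
  have hbt : b ≫ tr R h = incl (R U).A V.1 :=
    hom_ext_rep R _ _ (by rw [op_comp, Functor.map_comp_apply, map_tr, hb])
  have hab : a ≫ b = 𝟙 _ := by
    apply hom_ext_rep R
    rw [op_comp, Functor.map_comp_apply, hb, ← Functor.map_comp_apply, ← op_comp, ha, map_tr]
    simp
  have hba : b ≫ a = 𝟙 _ := by
    apply Over.OverMorphism.ext
    rw [← cancel_mono (incl (R U).A V.1).left, ← Over.comp_left, Category.assoc, ha, hbt]
    simp
  let e : (R V).A.left ≅ B.left :=
    ⟨a.left, b.left, congrArg CommaMorphism.left hab, congrArg CommaMorphism.left hba⟩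
  have H : IsPullback (toOpen R V) (tr R h).left V.1.ι (R U).A.hom := by
    refine (isPullback_morphismRestrict (R U).A.hom V.1).of_iso e.symm (Iso.refl _) (Iso.refl _)
      (Iso.refl _) ?_ ?_ ?_ ?_
    · rw [← cancel_mono V.1.ι]
      simp only [Iso.refl_hom, Category.comp_id, Category.assoc, toOpen_ι, morphismRestrict_ι]
      change _ = b.left ≫ (R V).A.hom
      rw [Over.w b]
      rfl
    · change _ ≫ 𝟙 _ = b.left ≫ (tr R h).left
      rw [← Over.comp_left, hbt, Category.comp_id]
      rfl
    · simp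
    · simp
  refine ⟨⟨?_⟩, ⟨PullbackCone.IsLimit.mk _
    (fun c ↦ H.lift c.fst c.snd ?_) (fun c ↦ H.lift_fst _ _ _) (fun c ↦ H.lift_snd _ _ _)
    (fun c m h1 h2 ↦ H.hom_ext (h1.trans (H.lift_fst _ _ _).symm) (h2.trans (H.lift_snd _ _ _).symm))⟩⟩
  · rw [← cancel_mono U.1.ι]
    simp only [Category.assoc, Scheme.homOfLE_ι, toOpen_ι, Over.w]
  · rw [← S.homOfLE_ι (AffineZariskiSite.toOpens_mono h), ← Category.assoc, c.condition,
      Category.assoc, toOpen_ι]

/-- the gluing datum -/
noncomputable def glueData : (AffineZariskiSite.directedCover S).RelativeGluingData where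
  functor := functor R
  natTrans := natTrans R
  equifibered := fun _ _ h ↦ (isPullback_tr R h.le).flip

instance : ((glueData R).functor ⋙ Scheme.forget).IsLocallyDirected :=
  Scheme.Cover.RelativeGluingData.instIsLocallyDirectedI₀CompFunctorForgetOfIsThin ..

/-- the glued scheme -/
noncomputable def glued : Over S := Over.mk (glueData R).toBase

/-- the charts -/
noncomputable def ι (U : S.AffineZariskiSite) : (R U).A ⟶ glued R :=
  Over.homMk (colimit.ι (glueData R).functor U) (by
    refine ((glueData R).ι_toBase U).trans ?_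
    exact toOpen_ι R U)

instance (U : S.AffineZariskiSite) : IsOpenImmersion (ι R U).left :=
  (glueData R).cover.map_prop U

@[reassoc]
lemma tr_ι {V U : S.AffineZariskiSite} (h : V ≤ U) : tr R h ≫ ι R U = ι R V :=
  Over.OverMorphism.ext (colimit.w (glueData R).functor (homOfLE h))

lemma preimage_glued (U : S.AffineZariskiSite) :
    (glued R).hom ⁻¹ᵁ U.1 = (ι R U).left.opensRange := by
  simpa [glued, ι] using! (glueData R).toBase_preimage_eq_opensRange_ι U

lemma range_incl_glued (U : S.AffineZariskiSite) :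
    Set.range (incl (glued R) U.1).left = Set.range (ι R U).left := by
  rw [incl_left]
  erw [Scheme.Opens.range_ι, preimage_glued]
  rfl

/-- the restriction over an affine open is the chart -/
noncomputable def chart (U : S.AffineZariskiSite) : restr (glued R) U.1 ⟶ (R U).A :=
  (exists_lift (ι R U) (incl (glued R) U.1) (range_incl_glued R U).le).choose

@[reassoc]
lemma chart_ι (U : S.AffineZariskiSite) : chart R U ≫ ι R U = incl (glued R) U.1 :=
  (exists_lift (ι R U) (incl (glued R) U.1) (range_incl_glued R U).le).choose_spec.1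

lemma hom_ext_ι {T : Over S} {U : S.AffineZariskiSite} {v w : T ⟶ (R U).A}
    (e : v ≫ ι R U = w ≫ ι R U) : v = w := by
  apply Over.OverMorphism.ext
  rw [← cancel_mono (ι R U).left, ← Over.comp_left, e, Over.comp_left]

lemma inclLE_chart {V U : S.AffineZariskiSite} (h : V ≤ U) :
    inclLE (glued R) (AffineZariskiSite.toOpens_mono h) ≫ chart R U = chart R V ≫ tr R h := by
  apply hom_ext_ι R
  rw [Category.assoc, Category.assoc, chart_ι, tr_ι, chart_ι, inclLE_incl]

lemma glue_hom {T A : Over S} (g : ∀ U : S.AffineZariskiSite, restr T U.1 ⟶ A)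
    (hg : ∀ (V U : S.AffineZariskiSite) (h : V ≤ U),
      inclLE T (AffineZariskiSite.toOpens_mono h) ≫ g U = g V) :
    ∃! v : T ⟶ A, ∀ U, incl T U.1 ≫ v = g U := by
  let 𝒰 : T.left.OpenCover := (AffineZariskiSite.directedCover S).pullback₁ T.hom
  letI : Category 𝒰.I₀ :=
    inferInstanceAs (Category ((AffineZariskiSite.directedCover S).pullback₁ T.hom).I₀)
  letI : Scheme.Cover.LocallyDirected 𝒰 :=
    Scheme.Cover.locallyDirectedPullbackCover (AffineZariskiSite.directedCover S) T.hom
  have hf : ∀ U : S.AffineZariskiSite,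
      𝒰.f U = (pullbackRestrictIsoRestrict T.hom U.1).hom ≫ (T.hom ⁻¹ᵁ U.1).ι :=
    fun U ↦ (pullbackRestrictIsoRestrict_hom_ι T.hom U.1).symm
  let φ : ∀ U : S.AffineZariskiSite, 𝒰.X U ⟶ A.left := fun U ↦
    (pullbackRestrictIsoRestrict T.hom U.1).hom ≫ (g U).left
  have hcompat : ∀ {V U : 𝒰.I₀} (h : V ⟶ U), 𝒰.trans h ≫ φ U = φ V := by
    intro V U h
    have hle : @LE.le S.AffineZariskiSite _ V U :=
      CategoryTheory.leOfHom (show @Quiver.Hom S.AffineZariskiSite _ V U from h)
    change 𝒰.trans h ≫ (pullbackRestrictIsoRestrict T.hom U.1).hom ≫ (g U).left =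
      (pullbackRestrictIsoRestrict T.hom V.1).hom ≫ (g V).left
    rw [← hg V U hle, Over.comp_left, ← Category.assoc, ← Category.assoc]
    congr 1
    rw [← cancel_mono (T.hom ⁻¹ᵁ U.1).ι, Category.assoc, Category.assoc, ← hf U]
    refine ((Scheme.Cover.trans_map 𝒰 h).trans (hf V)).trans ?_
    exact congrArg (_ ≫ ·) (T.left.homOfLE_ι (preimage_mono_open T
      (AffineZariskiSite.toOpens_mono hle))).symm
  refine ⟨Scheme.OpenCover.glueMorphismsOverOfLocallyDirected (X := T) 𝒰 φ hcompat fun U ↦ ?_,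
    fun U ↦ ?_, fun v hv ↦ ?_⟩
  · change ((pullbackRestrictIsoRestrict T.hom U.1).hom ≫ (g U).left) ≫ A.hom = 𝒰.f U ≫ T.hom
    rw [hf, Category.assoc, Over.w (g U)]
    exact (Category.assoc _ _ _).symm
  · apply Over.OverMorphism.ext
    rw [Over.comp_left, ← cancel_epi (pullbackRestrictIsoRestrict T.hom U.1).hom, incl_left,
      ← Category.assoc, ← hf]
    exact Scheme.OpenCover.map_glueMorphismsOverOfLocallyDirected_left (X := T) 𝒰 φ hcompat _ U
  · apply Over.OverMorphism.ext
    refine 𝒰.hom_ext _ _ fun U ↦ ?_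
    rw [Scheme.OpenCover.map_glueMorphismsOverOfLocallyDirected_left, hf, Category.assoc]
    exact congrArg ((pullbackRestrictIsoRestrict T.hom (U : S.AffineZariskiSite).1).hom ≫ ·)
      (congrArg CommaMorphism.left (hv U))

end

/-- representability glues over the affine opens of the base -/
theorem exists_representing (hP : Glues P) (R : ∀ U : S.AffineZariskiSite, Rep P U.1) :
    ∃ (A : Over S) (x : P.obj (op A)), IsAffineHom A.hom ∧
      (∀ (T : Over S) (y : P.obj (op T)), ∃! v : T ⟶ A, P.map v.op x = y) ∧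
      ∀ (Q : MorphismProperty Scheme.{u}) [IsZariskiLocalAtTarget Q],
        (∀ U, Q (toOpen R U)) → Q A.hom := by
  obtain ⟨x, hx, -⟩ := hP (glued R) (fun U ↦ P.map (chart R U).op (R U).x) fun V U h ↦ by
    rw [← Functor.map_comp_apply, ← op_comp, inclLE_chart R h, op_comp, Functor.map_comp_apply,
      map_tr]
  have hxι : ∀ U, P.map (ι R U).op x = (R U).x := by
    intro U
    obtain ⟨d, hd, -⟩ := exists_lift (incl (glued R) U.1) (ι R U) (range_incl_glued R U).ge
    have hdc : d ≫ chart R U = 𝟙 _ :=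
      hom_ext_ι R (by rw [Category.assoc, chart_ι, hd, Category.id_comp])
    rw [← hd, op_comp, Functor.map_comp_apply, hx, ← Functor.map_comp_apply, ← op_comp, hdc]
    simp
  refine ⟨glued R, x, ?_, fun T y ↦ ?_, fun Q hQ hloc ↦ ?_⟩
  · refine isAffineHom_of_forall_exists_isAffineOpen (glued R).hom fun s ↦ ?_
    obtain ⟨U, hU, hs, -⟩ := exists_isAffineOpen_mem_and_subset (U := ⊤) (x := s) trivial
    refine ⟨U, hs, hU, ?_⟩
    rw [show (glued R).hom ⁻¹ᵁ U = _ from preimage_glued R ⟨U, hU⟩]
    haveI := (R ⟨U, hU⟩).affine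
    exact isAffineOpen_opensRange _
  · choose v hv hv' using fun U : S.AffineZariskiSite ↦
      (R U).exists_hom (restr T U.1) (restr_preimage T U.1) (P.map (incl T U.1).op y)
    obtain ⟨w, hw, -⟩ := glue_hom (fun U ↦ v U ≫ ι R U) fun V U h ↦ by
      rw [← Category.assoc, ← tr_ι R h, ← Category.assoc]
      refine congrArg (· ≫ ι R U) (hom_ext_rep R _ _ ?_)
      rw [op_comp, Functor.map_comp_apply, hv U, op_comp, Functor.map_comp_apply, map_tr, hv V,
        ← Functor.map_comp_apply, ← op_comp, inclLE_incl]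
    have key : P.map w.op x = y := by
      obtain ⟨z, -, huniq⟩ := hP T (fun U ↦ P.map (incl T U.1).op y) fun V U h ↦ by
        rw [← Functor.map_comp_apply, ← op_comp, inclLE_incl]
      refine (huniq _ fun U ↦ ?_).trans (huniq y fun U ↦ rfl).symm
      rw [← Functor.map_comp_apply, ← op_comp, hw U, op_comp, Functor.map_comp_apply, hxι, hv U]
    refine ⟨w, key, fun w' hw' ↦ ?_⟩
    obtain ⟨z, -, huniq⟩ := glue_hom (fun U ↦ incl T U.1 ≫ w) fun V U h ↦ inclLE_incl_assoc T _ w
    refine (huniq w' fun U ↦ ?_).trans (huniq w fun U ↦ rfl).symm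
    obtain ⟨a, ha, -⟩ := exists_lift (ι R U) (incl T U.1 ≫ w')
      ((range_subset_preimage _ (restr_preimage T U.1)).trans (range_incl_glued R U).le)
    rw [hw U, ← ha]
    refine congrArg (· ≫ ι R U) (hv' U a ?_)
    dsimp only
    rw [← hxι U, ← Functor.map_comp_apply, ← op_comp, ha, op_comp, Functor.map_comp_apply, hw']
  · haveI := hQ
    refine IsZariskiLocalAtTarget.of_openCover (AffineZariskiSite.directedCover S) fun U ↦ ?_
    refine (MorphismProperty.arrow_mk_iso_iff Q ?_).mpr (hloc U)
    exact Arrow.isoMk ((glueData R).isPullback_natTrans_ι_toBase U).flip.isoPullback.symm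
      (Iso.refl _) (((glueData R).isPullback_natTrans_ι_toBase U).flip.isoPullback_inv_snd.trans
        (Category.comp_id _).symm)

end Groth.Agent.HomRep
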