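import Groth.Agent.HomRep.BC
import Groth.Agent.MTBridge.ExtCentral

/-!
# Schemes of homomorphisms between groups of multiplicative type are unramified
-/

set_option autoImplicit false
set_option linter.style.haveILetI false
set_option backward.isDefEq.respectTransparency false
set_option maxHeartbeats 800000
set_option synthInstance.maxHeartbeats 400000

universe u

open CategoryTheory Limits MonoidalCategory CartesianMonoidalCategory AlgebraicGeometry Opposite
open scoped CategoryTheory.Obj MonObj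

namespace Groth.Agent.HomRep

open Groth.Agent.MTBridge

variable {S : Scheme.{u}}

/-- The locus where a family of homomorphisms between groups of multiplicative type is trivial. -/
theorem exists_trivial_locus_family {E H H' : Over S} [GrpObj H] [GrpObj H'] (hH : SGA3x.IsMultTypeFT H)
    (hH' : SGA3x.IsMultTypeFT H') (d : H ⊗ E ⟶ H')
    (hd : ∀ (X : Over S) (a b : X ⟶ H) (e : X ⟶ E), lift (a * b) e ≫ d = (lift a e ≫ d) * (lift b e ≫ d)) :
    ∃ L : E.left.Opens, IsClosed (L : Set E.left) ∧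
      (∀ (X : Over S) (e : X ⟶ E), Set.range e.left ⊆ (L : Set E.left) →
        ∀ a : X ⟶ H, lift a e ≫ d = 1) ∧
      ∀ (K : Type u) [Field K] (e : Spec (CommRingCat.of K) ⟶ E.left),
        (∀ (X : Over S) (x : X.left ⟶ Spec (CommRingCat.of K)) (hx : x ≫ e ≫ E.hom = X.hom) (a : X ⟶ H),
          lift a (Over.homMk (U := X) (x ≫ e) (by rw [Category.assoc, hx]) : X ⟶ E) ≫ d = 1) →
        ∀ p, e p ∈ L := by
  let j : E.left ⟶ S := E.hom
  let P : Over E.left := Red.bc j H
  obtain ⟨a₀, ha₀⟩ := exists_toBC' j (𝟙 P)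
  let x₀ : (Over.map j).obj P ⟶ E := Over.homMk P.hom rfl
  let Q : Over E.left := Red.bc j H'
  let u : P ⟶ Q := toBC j (lift a₀ x₀ ≫ d)
  have hu : ∀ (Y : Over E.left) (a : (Over.map j).obj Y ⟶ H),
      toBC j a ≫ u = toBC j (lift a (Over.homMk Y.hom rfl : (Over.map j).obj Y ⟶ E) ≫ d) := by
    intro Y a
    show toBC j a ≫ toBC j (lift a₀ x₀ ≫ d) = _
    rw [← toBC_naturality, ← Category.assoc, comp_lift]
    have h1 : (Over.map j).map (toBC j a) ≫ a₀ = a := by
      apply toBC_inj j
      rw [toBC_naturality, ha₀, Category.comp_id]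
    have h2 : (Over.map j).map (toBC j a) ≫ x₀ = (Over.homMk Y.hom rfl : (Over.map j).obj Y ⟶ E) :=
      Over.OverMorphism.ext (Over.w (toBC j a))
    rw [h1, h2]
  haveI : IsMonHom u := isMonHom_of_points u fun Y a b => by
    obtain ⟨a, rfl⟩ := exists_toBC' j a
    obtain ⟨b, rfl⟩ := exists_toBC' j b
    rw [← toBC_mul, hu, hu, hu, hd, toBC_mul]
  haveI := isAffineHom H' hH'
  haveI := Groth.Agent.MTFT.locallyOfFiniteType H' hH'
  haveI : IsSeparated Q.hom := MorphismProperty.pullback_snd H'.hom j inferInstance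
  haveI : LocallyOfFiniteType Q.hom := MorphismProperty.pullback_snd H'.hom j inferInstance
  obtain ⟨U, hUc, hUiff, hU1⟩ := exists_clopen_trivial P Q (isMultTypeFT_bc H j hH) (Or.inr inferInstance) u
  refine ⟨U, hUc, fun X e hr a => ?_, fun K _ e he p => ?_⟩
  · have hle : Set.range e.left ⊆ Set.range U.ι := by rw [Scheme.Opens.range_ι]; exact hr
    let c := IsOpenImmersion.lift U.ι e.left hle
    have hc : c ≫ U.ι = e.left := IsOpenImmersion.lift_fac _ _ _
    have h1 : (Over.pullback e.left).map u = 1 := by rw [← hc]; exact map_eq_one_comp u U.ι c hU1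
    rw [map_eq_one_iff u (IsPullback.of_hasPullback P.hom e.left)] at h1
    let ε : (Over.map j).obj (Over.mk e.left) ≅ X := Over.isoMk (Iso.refl _) (by simpa [j] using (Over.w e).symm)
    have h2 : toBC j (ε.hom ≫ a) ≫ u = toBC j (ε.hom ≫ a) ≫ (1 : P ⟶ Q) := by
      apply Over.OverMorphism.ext
      have h3 := congrArg (fun k => pullback.lift (toBC j (ε.hom ≫ a)).left (𝟙 X.left) (f := P.hom) (g := e.left)
        ((Over.w (toBC j (ε.hom ≫ a))).trans (Category.id_comp _).symm) ≫ k) h1
      simp only [pullback.lift_fst_assoc] at h3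
      rw [Over.comp_left, Over.comp_left]
      exact h3
    rw [MonObj.comp_one, hu] at h2
    have h4 : toBC j (1 : (Over.map j).obj (Over.mk e.left) ⟶ H') = 1 :=
      mul_eq_left.1 (show toBC j (1 : _ ⟶ H') * toBC j 1 = toBC j 1 by rw [← toBC_mul, _root_.one_mul])
    rw [← h4] at h2
    have h5 := toBC_inj j h2
    have h6 : (Over.homMk (Over.mk e.left).hom rfl : (Over.map j).obj (Over.mk e.left) ⟶ E) = ε.hom ≫ e := by
      apply Over.OverMorphism.ext
      simp [ε]
    rw [h6, ← comp_lift, Category.assoc, ← MonObj.comp_one ε.hom] at h5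
    exact (cancel_epi ε.hom).1 h5
  · rw [hUiff]
    -- triviality over the field
    have hK : (Over.pullback e).map u = 1 := by
      rw [map_eq_one_iff u (IsPullback.of_hasPullback P.hom e)]
      let Y : Over E.left := Over.mk (pullback.snd P.hom e ≫ e)
      let y : Y ⟶ P := Over.homMk (pullback.fst P.hom e) pullback.condition
      obtain ⟨a, ha⟩ := exists_toBC' j y
      have h2 : y ≫ u = y ≫ 1 := by
        rw [MonObj.comp_one, ← ha, hu, show (Over.homMk Y.hom rfl : (Over.map j).obj Y ⟶ E) =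
          Over.homMk (pullback.snd P.hom e ≫ e) rfl from rfl,
          he ((Over.map j).obj Y) (pullback.snd P.hom e) (Category.assoc _ _ _).symm a]
        exact mul_eq_left.1 (show toBC j (1 : _ ⟶ H') * toBC j 1 = toBC j 1 by rw [← toBC_mul, _root_.one_mul])
      exact congrArg (fun k => k.left) h2
    -- descend to the residue field
    obtain ⟨c, hc⟩ : ∃ c : Spec (CommRingCat.of K) ⟶ Spec (E.left.residueField (e p)),
        c ≫ E.left.fromSpecResidueField (e p) = e := by
      have hp : p = IsLocalRing.closedPoint K := Subsingleton.elim _ _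
      subst hp
      exact ⟨Spec.map (E.left.descResidueField (Scheme.stalkClosedPointTo e)),
        Scheme.descResidueField_stalkClosedPointTo_fromSpecResidueField K E.left e⟩
    haveI : Flat c := inferInstance
    haveI : Surjective c := inferInstance
    exact map_eq_one_of_ff u (E.left.fromSpecResidueField (e p)) c (by rw [hc]; exact hK)

/-- the scheme of homomorphisms between groups of multiplicative type is unramified -/
theorem formallyUnramified_of_representsHom {G H A : Over S} [GrpObj G] [GrpObj H]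
    (hG : SGA3x.IsMultTypeFT G) (hH : SGA3x.IsMultTypeFT H) [IsSeparated A.hom] {υ : G ⊗ A ⟶ H}
    (hA : AutFam.RepresentsHom G H A υ) : FormallyUnramified A.hom := by
  have hcomm : ∀ {X : Over S} (x y : X ⟶ H), x * y = y * x := fun x y ↦
    comm_points_scheme H (locally_of_isMultTypeFT' H hH) x y
  let φ₁ : G ⊗ (A ⊗ A) ⟶ H := (G ◁ fst A A) ≫ υ
  let φ₂ : G ⊗ (A ⊗ A) ⟶ H := (G ◁ snd A A) ≫ υ
  have hd : ∀ (X : Over S) (a b : X ⟶ G) (e : X ⟶ A ⊗ A), lift (a * b) e ≫ (φ₁ * φ₂⁻¹) =
      (lift a e ≫ (φ₁ * φ₂⁻¹)) * (lift b e ≫ (φ₁ * φ₂⁻¹)) := by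
    intro X a b e
    simp only [MonObj.comp_mul, GrpObj.comp_inv, φ₁, φ₂, lift_whiskerLeft_assoc, hA.1 X a b]
    rw [mul_inv_rev, hcomm (lift b (e ≫ snd A A) ≫ υ)⁻¹ (lift a (e ≫ snd A A) ≫ υ)⁻¹,
      _root_.mul_assoc, _root_.mul_assoc,
      ← _root_.mul_assoc (lift b (e ≫ fst A A) ≫ υ) (lift a (e ≫ snd A A) ≫ υ)⁻¹ _,
      hcomm (lift b (e ≫ fst A A) ≫ υ) (lift a (e ≫ snd A A) ≫ υ)⁻¹, _root_.mul_assoc]
  obtain ⟨L, -, hL1, hL2⟩ := exists_trivial_locus_family hG hH (φ₁ * φ₂⁻¹) hd
  let Δ : A ⟶ A ⊗ A := lift (𝟙 A) (𝟙 A)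
  have hΔ : ∀ (X : Over S) (e : X ⟶ A) (a : X ⟶ G), lift a (e ≫ Δ) ≫ (φ₁ * φ₂⁻¹) = 1 := by
    intro X e a
    simp only [MonObj.comp_mul, GrpObj.comp_inv, φ₁, φ₂, Δ, lift_whiskerLeft_assoc, Category.assoc,
      lift_fst, lift_snd, Category.comp_id, mul_inv_cancel]
  have hrange : Set.range Δ.left ⊆ (L : Set (A ⊗ A).left) := by
    rintro _ ⟨a, rfl⟩
    obtain ⟨q, hq⟩ : a ∈ Set.range (A.left.fromSpecResidueField a) := by
      rw [Scheme.range_fromSpecResidueField]; rfl
    have := hL2 (A.left.residueField a) (A.left.fromSpecResidueField a ≫ Δ.left) (fun X x hx g ↦ by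
      let e : X ⟶ A := Over.homMk (x ≫ A.left.fromSpecResidueField a) (by
        rw [Category.assoc, ← hx, Category.assoc, Over.w Δ])
      rw [show (Over.homMk (x ≫ A.left.fromSpecResidueField a ≫ Δ.left) _ : X ⟶ A ⊗ A) = e ≫ Δ from
        Over.OverMorphism.ext (Category.assoc _ _ _).symm]
      exact hΔ X e g) q
    rw [← hq]
    rwa [Scheme.Hom.comp_apply] at this
  let U : Over S := Over.mk (L.ι ≫ (A ⊗ A).hom)
  let p : U ⟶ A ⊗ A := Over.homMk L.ι rfl
  have hp : p ≫ fst A A = p ≫ snd A A := by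
    have h1 := hL1 U p (by rw [show p.left = L.ι from rfl]; exact (Scheme.Opens.range_ι L).le)
    refine (hA.2 U ((G ◁ p) ≫ φ₁) fun X a b t ↦ ?_).unique ?_ ?_
    · simp only [φ₁, ← whiskerLeft_comp_assoc, lift_whiskerLeft_assoc]
      exact hA.1 X a b _
    · simp only [φ₁, whiskerLeft_comp_assoc]
    · have h2 : lift (fst G U) (snd G U ≫ p) ≫ (φ₁ * φ₂⁻¹) = 1 := by
        refine hL1 _ _ ?_ _
        rintro _ ⟨x, rfl⟩
        exact ((snd G U).left x).2
      rw [MonObj.comp_mul, GrpObj.comp_inv, mul_inv_eq_one] at h2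
      have h3 : lift (fst G U) (snd G U ≫ p) = G ◁ p := by
        apply CartesianMonoidalCategory.hom_ext <;> simp
      rw [h3] at h2
      rw [whiskerLeft_comp_assoc]
      exact h2.symm
  haveI : IsOpenImmersion p.left := inferInstanceAs (IsOpenImmersion L.ι)
  obtain ⟨δ, hδ, -⟩ := exists_lift p Δ (by
    rw [show p.left = L.ι from rfl]
    exact hrange.trans (Scheme.Opens.range_ι L).ge)
  have h1 : δ ≫ p ≫ fst A A = 𝟙 A := by rw [← Category.assoc, hδ, lift_fst]
  have h2 : (p ≫ fst A A) ≫ δ = 𝟙 U := by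
    apply Over.OverMorphism.ext
    refine (cancel_mono L.ι).mp ?_
    have : ((p ≫ fst A A) ≫ δ) ≫ p = p := by
      rw [Category.assoc, hδ]
      apply CartesianMonoidalCategory.hom_ext
      · rw [Category.assoc, lift_fst, Category.comp_id]
      · rw [Category.assoc, lift_snd, Category.comp_id, hp]
    exact (congrArg CommaMorphism.left this).trans (Category.id_comp _).symm
  haveI : IsIso δ.left :=
    ⟨(p ≫ fst A A).left, congrArg CommaMorphism.left h1, congrArg CommaMorphism.left h2⟩
  haveI : IsOpenImmersion (pullback.diagonal A.hom) := by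
    rw [show pullback.diagonal A.hom = δ.left ≫ p.left from ?_]
    · infer_instance
    · rw [← Over.comp_left, hδ]
      apply pullback.hom_ext
      · rw [pullback.diagonal_fst]
        exact (congrArg CommaMorphism.left (lift_fst (𝟙 A) (𝟙 A))).symm
      · rw [pullback.diagonal_snd]
        exact (congrArg CommaMorphism.left (lift_snd (𝟙 A) (𝟙 A))).symm
  infer_instance

end Groth.Agent.HomRep
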