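import Groth.Agent.HomRep.FieldHom
import Groth.Agent.HomRep.Unram
import Groth.Agent.EtaleSections.Basic

/-!
# The scheme of homomorphisms between finite diagonalisable groups
-/

set_option autoImplicit false
set_option linter.style.haveILetI false
set_option backward.isDefEq.respectTransparency false
set_option maxHeartbeats 800000
set_option synthInstance.maxHeartbeats 400000

universe u

open CategoryTheory Limits MonoidalCategory CartesianMonoidalCategory AlgebraicGeometry
open scoped CategoryTheory.Obj MonObj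

namespace Groth.Agent.HomRep

open Groth.Agent.MTBridge

theorem isFinite_sigmaDesc {κ : Type u} [Finite κ] {Z : Scheme.{u}} [IsAffine Z] {W : κ → Scheme.{u}}
    [∀ i, IsAffine (W i)] (f : ∀ i, W i ⟶ Z) (hf : ∀ i, IsFinite (f i)) : IsFinite (Limits.Sigma.desc f) := by
  let A : κ → CommRingCat.{u} := fun i => Γ(W i, ⊤)
  let φ : Γ(Z, ⊤) ⟶ CommRingCat.of (∀ i, A i) := CommRingCat.ofHom (Pi.ringHom fun i => (f i).appTop.hom)
  have hφ : φ.hom.Finite := by
    let _ : ∀ i, Algebra Γ(Z, ⊤) (A i) := fun i => (f i).appTop.hom.toAlgebra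
    have : ∀ i, Module.Finite Γ(Z, ⊤) (A i) := fun i => by
      have := ((HasAffineProperty.iff_of_isAffine (P := @IsFinite) (f := f i)).1 (hf i)).2
      exact this
    have : Module.Finite Γ(Z, ⊤) (∀ i, A i) := Module.Finite.pi
    have e : φ.hom = algebraMap Γ(Z, ⊤) (∀ i, A i) := rfl
    rw [e]
    exact RingHom.finite_algebraMap.mpr this
  have : IsFinite (Spec.map φ) := (IsFinite.SpecMap_iff φ).2 hφ
  have e : Limits.Sigma.desc f = ((Sigma.mapIso fun i => (W i).isoSpec).hom ≫ sigmaSpec A) ≫ Spec.map φ ≫ Z.isoSpec.inv := by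
    refine Sigma.hom_ext _ _ fun i => ?_
    rw [Sigma.ι_desc]
    rw [Category.assoc, Sigma.ι_mapIso_hom_assoc, ι_sigmaSpec_assoc]
    rw [← Spec.map_comp_assoc]
    have e1 : φ ≫ CommRingCat.ofHom (Pi.evalRingHom (fun i => (A i : Type u)) i) = (f i).appTop := by ext x; rfl
    rw [e1, Scheme.isoSpec_hom_naturality_assoc, Iso.hom_inv_id, Category.comp_id]
  rw [e]
  have : IsIso ((Sigma.mapIso fun i => (W i).isoSpec).hom ≫ sigmaSpec A) := by
    infer_instance
  have : IsFinite ((Sigma.mapIso fun i => (W i).isoSpec).hom ≫ sigmaSpec A) :=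
    MorphismProperty.of_isIso @IsFinite _
  have : IsFinite Z.isoSpec.inv := inferInstance
  exact MorphismProperty.comp_mem @IsFinite _ _ ‹_› (MorphismProperty.comp_mem @IsFinite _ _ ‹_› ‹_›)

lemma exists_eq_section {R : Type u} [CommRing R] {M N : Type u} [CommGroup M] [CommGroup N]
    [Finite M] {A : Over (Spec (CommRingCat.of R))}
    {υ : (specGrp R (MonoidAlgebra R M)).X ⊗ A ⟶ (specGrp R (MonoidAlgebra R N)).X}
    (hA : AutFam.RepresentsHom _ _ A υ) {K : Type u} [Field K] [Algebra R K]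
    (e : (Spec (CommRingCat.of K)).asOver (Spec (CommRingCat.of R)) ⟶ A) :
    ∃ φ : N →* M, ∀ σ : 𝟙_ (Over (Spec (CommRingCat.of R))) ⟶ A,
      ((specGrp R (MonoidAlgebra R M)).X ◁ σ) ≫ υ = fst _ _ ≫ dHom φ →
      e = toUnit _ ≫ σ := by
  have hf : AutFam.IsHomFamily (specGrp R (MonoidAlgebra R M)).X (specGrp R (MonoidAlgebra R N)).X
      (((specGrp R (MonoidAlgebra R M)).X ◁ e) ≫ υ) := fun X x y t ↦ by
    rw [lift_whiskerLeft_assoc, lift_whiskerLeft_assoc, lift_whiskerLeft_assoc]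
    exact hA.1 X x y (t ≫ e)
  obtain ⟨φ, hφ⟩ := exists_dHom_of_field _ hf
  refine ⟨φ, fun σ hσ ↦ (hA.2 _ _ hf).unique rfl ?_⟩
  dsimp only
  rw [whiskerLeft_comp_assoc, hσ, whiskerLeft_fst_assoc, hφ]

/-- the scheme of homomorphisms of finite diagonalisable groups is finite etale -/
theorem finite_etale_of_split {R : Type u} [CommRing R] {M N : Type u} [CommGroup M] [CommGroup N]
    [Finite M] [Finite N] {A : Over (Spec (CommRingCat.of R))}
    {υ : (specGrp R (MonoidAlgebra R M)).X ⊗ A ⟶ (specGrp R (MonoidAlgebra R N)).X}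
    (hA : AutFam.RepresentsHom _ _ A υ) [IsAffineHom A.hom] [LocallyOfFiniteType A.hom]
    [FormallyUnramified A.hom] : IsFinite A.hom ∧ Etale A.hom := by
  let G := (specGrp R (MonoidAlgebra R M)).X
  let H := (specGrp R (MonoidAlgebra R N)).X
  have hfam : ∀ (φ : N →* M) (T : Over (Spec (CommRingCat.of R))),
      AutFam.IsHomFamily G H (fst G T ≫ dHom φ) := by
    intro φ T X a b t
    simp only [lift_fst_assoc, MonObj.mul_comp]
  have hex := fun φ : N →* M ↦ hA.2 (𝟙_ (Over (Spec (CommRingCat.of R)))) _ (hfam φ _)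
  choose σ hσ hσu using hex
  have hsec : ∀ φ, (σ φ).left ≫ A.hom = 𝟙 _ := fun φ ↦ Over.w (σ φ)
  haveI hopen : ∀ φ, IsOpenImmersion (σ φ).left := fun φ ↦
    Groth.Agent.EtaleSections.isOpenImmersion_section (π := A.hom) (σ φ).left (hsec φ)
  have hcover : ∀ a : A.left, ∃ φ, a ∈ Set.range (σ φ).left := by
    intro a
    let K := A.left.residueField a
    letI : Algebra R K := (Spec.preimage (A.left.fromSpecResidueField a ≫ A.hom)).hom.toAlgebra
    have hK : Spec.map (CommRingCat.ofHom (algebraMap R K)) = A.left.fromSpecResidueField a ≫ A.hom :=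
      Spec.map_preimage _
    let T := (Spec (CommRingCat.of K)).asOver (Spec (CommRingCat.of R))
    let e : T ⟶ A := Over.homMk (A.left.fromSpecResidueField a) hK.symm
    obtain ⟨φ, hφ⟩ := exists_eq_section hA e
    refine ⟨φ, ?_⟩
    have h1 : e = toUnit T ≫ σ φ := hφ (σ φ) (hσ φ)
    obtain ⟨q, hq⟩ : a ∈ Set.range (A.left.fromSpecResidueField a) := by
      rw [Scheme.range_fromSpecResidueField]; rfl
    refine ⟨(toUnit T).left q, ?_⟩
    rw [← hq]
    exact (congrArg (fun k : T ⟶ A ↦ k.left q) h1).symm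
  let 𝒰 : A.left.OpenCover := Scheme.Cover.mkOfCovers (N →* M) (fun _ ↦ Spec (CommRingCat.of R))
    (fun φ ↦ (σ φ).left) (fun a ↦ by
      obtain ⟨φ, x, hx⟩ := hcover a
      exact ⟨φ, x, hx⟩) hopen
  have het : Etale A.hom := by
    refine IsZariskiLocalAtSource.of_openCover 𝒰 fun φ ↦ ?_
    rw [show 𝒰.f φ ≫ A.hom = 𝟙 _ from hsec φ]
    infer_instance
  haveI : Finite (N →* M) := Finite.of_injective (fun f : N →* M ↦ (f : N → M)) DFunLike.coe_injective
  let π : (∐ fun _ : N →* M ↦ Spec (CommRingCat.of R)) ⟶ A.left := Limits.Sigma.desc fun φ ↦ (σ φ).left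
  haveI : Surjective π := ⟨fun a ↦ by
    obtain ⟨φ, x, hx⟩ := hcover a
    refine ⟨(Sigma.ι (fun _ : N →* M ↦ Spec (CommRingCat.of R)) φ) x, ?_⟩
    rw [← Scheme.Hom.comp_apply, Sigma.ι_desc]
    exact hx⟩
  haveI : UniversallyClosed (π ≫ A.hom) := by
    rw [show π ≫ A.hom = Limits.Sigma.desc fun _ : N →* M ↦ 𝟙 _ from
      Sigma.hom_ext _ _ fun φ ↦ by simp [π, hsec φ]]
    haveI : IsFinite (Limits.Sigma.desc fun _ : N →* M ↦ 𝟙 (Spec (CommRingCat.of R))) :=
      isFinite_sigmaDesc _ fun _ ↦ inferInstance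
    infer_instance
  haveI : UniversallyClosed A.hom := UniversallyClosed.of_comp_surjective π A.hom
  exact ⟨(IsFinite.iff_isIntegralHom_and_locallyOfFiniteType _).mpr
    ⟨IsIntegralHom.iff_universallyClosed_and_isAffineHom.mpr ⟨inferInstance, inferInstance⟩, inferInstance⟩, het⟩

end Groth.Agent.HomRep
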